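import Groth.Agent.UnivHomeo.Ring
import Groth.Prelude.Def_Flat
import Mathlib.AlgebraicGeometry.Morphisms.Integral
import Mathlib.AlgebraicGeometry.Morphisms.UniversallyInjective
import Mathlib.AlgebraicGeometry.Morphisms.UniversallyClosed
import Mathlib.AlgebraicGeometry.ResidueField

/-!
Universal homeomorphisms of affine schemes in ring-theoretic terms, and the direction
`integral + universally injective + surjective → universal homeomorphism` in general.
-/

set_option autoImplicit false
set_option linter.unusedSectionVars false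
set_option backward.isDefEq.respectTransparency.types false

open CategoryTheory AlgebraicGeometry

namespace Groth.Agent.UnivHomeo

universe u

lemma isUnivHomeo_of_integral_univInjective_surjective {X Y : Scheme.{u}} (f : X ⟶ Y)
    [IsIntegralHom f] [UniversallyInjective f] [Surjective f] : FlatMor.IsUnivHomeo f := by
  intro X' Y' i₁ i₂ f' h
  have h1 : IsIntegralHom f' := MorphismProperty.of_isPullback h.flip (inferInstance : IsIntegralHom f)
  have h2 : UniversallyInjective f' :=
    MorphismProperty.of_isPullback h.flip (inferInstance : UniversallyInjective f)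
  have h3 : Surjective f' := MorphismProperty.of_isPullback h.flip (inferInstance : Surjective f)
  show IsHomeomorph f'.base
  rw [isHomeomorph_iff_continuous_isClosedMap_bijective]
  exact ⟨f'.continuous, f'.isClosedMap, f'.injective, f'.surjective⟩

lemma universallyClosed_of_isUnivHomeo {X Y : Scheme.{u}} {f : X ⟶ Y}
    (h : FlatMor.IsUnivHomeo f) : UniversallyClosed f :=
  ⟨fun _ _ i₁ i₂ f' hp => (h i₁ i₂ f' hp).isClosedMap⟩

lemma universallyInjective_of_isUnivHomeo {X Y : Scheme.{u}} {f : X ⟶ Y}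
    (h : FlatMor.IsUnivHomeo f) : UniversallyInjective f :=
  ⟨fun _ _ i₁ i₂ f' hp => (h i₁ i₂ f' hp).injective⟩

lemma surjective_of_isUnivHomeo {X Y : Scheme.{u}} {f : X ⟶ Y}
    (h : FlatMor.IsUnivHomeo f) : Surjective f :=
  ⟨(h (𝟙 X) (𝟙 Y) f (IsPullback.of_vert_isIso ⟨by simp⟩)).surjective⟩

section

variable {A B : Type u} [CommRing A] [CommRing B] (φ : A →+* B)

lemma rad_iff : Rad φ ↔ UniversallyInjective (Spec.map (CommRingCat.ofHom φ)) := by
  have h' := (tfae_universallyInjective (f := Spec.map (CommRingCat.ofHom φ))).out 0 1 rfl rfl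
  rw [h']
  constructor
  · intro h K _ g₁ g₂ hg
    obtain ⟨g₁, rfl⟩ := Spec.map_surjective g₁
    obtain ⟨g₂, rfl⟩ := Spec.map_surjective g₂
    simp only [← Spec.map_comp] at hg
    rw [Spec.map_inj] at hg ⊢
    exact CommRingCat.hom_ext (h K g₁.hom g₂.hom (congrArg CommRingCat.Hom.hom hg))
  · intro h K _ g₁ g₂ hg
    have := h K (a₁ := Spec.map (CommRingCat.ofHom g₁)) (a₂ := Spec.map (CommRingCat.ofHom g₂))
      (by simp only [← Spec.map_comp]; rw [← CommRingCat.ofHom_comp, ← CommRingCat.ofHom_comp, hg])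
    rw [Spec.map_inj] at this
    exact congrArg CommRingCat.Hom.hom this

lemma isIntegralHom_iff : IsIntegralHom (Spec.map (CommRingCat.ofHom φ)) ↔ φ.IsIntegral :=
  IsIntegralHom.SpecMap_iff

lemma ker_le_of_surjective (h : Surjective (Spec.map (CommRingCat.ofHom φ))) :
    RingHom.ker φ ≤ nilradical A := by
  rw [nilradical_eq_sInf]
  refine le_sInf fun P (hP : P.IsPrime) => ?_
  obtain ⟨Q, hQ⟩ := h.surj ⟨P, hP⟩
  intro x hx
  have hQ' : (Q.asIdeal.comap φ) = P := congrArg PrimeSpectrum.asIdeal hQ
  rw [← hQ', Ideal.mem_comap, hx]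
  exact Q.asIdeal.zero_mem

lemma surjective_of_ker_le (hint : φ.IsIntegral) (hker : RingHom.ker φ ≤ nilradical A) :
    Surjective (Spec.map (CommRingCat.ofHom φ)) := by
  refine ⟨?_⟩
  intro (P : PrimeSpectrum A)
  letI : Algebra A B := φ.toAlgebra
  haveI : Algebra.IsIntegral A B := ⟨hint⟩
  have hle : RingHom.ker φ ≤ P.asIdeal := hker.trans (nilradical_le_prime P.asIdeal)
  obtain ⟨Q, -, hQ, hQc⟩ := Ideal.exists_ideal_over_prime_of_isIntegral P.asIdeal (⊥ : Ideal B)
    (by rwa [← RingHom.ker_eq_comap_bot])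
  exact ⟨⟨Q, hQ⟩, PrimeSpectrum.ext hQc⟩

/-- universal homeomorphism of affine schemes, ring-theoretically -/
theorem isUnivHomeo_iff :
    FlatMor.IsUnivHomeo (Spec.map (CommRingCat.ofHom φ)) ↔
      φ.IsIntegral ∧ Rad φ ∧ RingHom.ker φ ≤ nilradical A := by
  constructor
  · intro h
    refine ⟨(isIntegralHom_iff φ).1 ?_, (rad_iff φ).2 (universallyInjective_of_isUnivHomeo h),
      ker_le_of_surjective φ (surjective_of_isUnivHomeo h)⟩
    exact IsIntegralHom.iff_universallyClosed_and_isAffineHom.2
      ⟨universallyClosed_of_isUnivHomeo h, inferInstance⟩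
  · rintro ⟨h1, h2, h3⟩
    haveI := (isIntegralHom_iff φ).2 h1
    haveI := (rad_iff φ).1 h2
    haveI := surjective_of_ker_le φ h1 h3
    exact isUnivHomeo_of_integral_univInjective_surjective _

lemma universallyClosed_iff :
    UniversallyClosed (Spec.map (CommRingCat.ofHom φ)) ↔ φ.IsIntegral := by
  rw [← isIntegralHom_iff, IsIntegralHom.iff_universallyClosed_and_isAffineHom]
  exact ⟨fun h => ⟨h, inferInstance⟩, fun h => h.1⟩

/-- the canonical map to the residue field of the spectrum -/
noncomputable def toResidue {R : CommRingCat.{u}} (x : Spec R) : R ⟶ (Spec R).residueField x :=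
  CommRingCat.ofHom (algebraMap R x.asIdeal.ResidueField) ≫ (Scheme.Spec.residueFieldIso R x).inv

lemma SpecMap_toResidue {R : CommRingCat.{u}} (x : Spec R) :
    Spec.map (toResidue x) = (Spec R).fromSpecResidueField x := by
  rw [toResidue, Spec.map_comp, Scheme.Spec.map_residueFieldIso_inv_eq_fromSpecResidueField]

lemma toResidue_eq_zero {R : CommRingCat.{u}} (x : Spec R) (r : R) :
    toResidue x r = 0 ↔ r ∈ x.asIdeal := by
  rw [← Ideal.algebraMap_residueField_eq_zero (I := x.asIdeal)]
  change (Scheme.Spec.residueFieldIso R x).inv.hom (algebraMap R x.asIdeal.ResidueField r) = 0 ↔ _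
  exact map_eq_zero_iff _ (Scheme.Spec.residueFieldIso R x).symm.commRingCatIsoToRingEquiv.injective

lemma toResidue_frac {R : CommRingCat.{u}} (x : Spec R) (z : (Spec R).residueField x) :
    ∃ a s : R, s ∉ x.asIdeal ∧ z * toResidue x s = toResidue x a := by
  obtain ⟨w, rfl⟩ := (Scheme.Spec.residueFieldIso R x).symm.commRingCatIsoToRingEquiv.surjective z
  obtain ⟨⟨a, s⟩, hw⟩ := IsLocalization.surj (nonZeroDivisors (R ⧸ x.asIdeal)) w
  obtain ⟨a, rfl⟩ := Ideal.Quotient.mk_surjective a
  obtain ⟨s, hs⟩ := s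
  obtain ⟨s, rfl⟩ := Ideal.Quotient.mk_surjective s
  refine ⟨a, s, fun hmem => ?_, ?_⟩
  · exact (nonZeroDivisors.ne_zero hs) (Ideal.Quotient.eq_zero_iff_mem.2 hmem)
  · change _ * (Scheme.Spec.residueFieldIso R x).inv.hom (algebraMap R x.asIdeal.ResidueField s) =
      (Scheme.Spec.residueFieldIso R x).inv.hom (algebraMap R x.asIdeal.ResidueField a)
    rw [IsScalarTower.algebraMap_apply R (R ⧸ x.asIdeal) x.asIdeal.ResidueField,
      IsScalarTower.algebraMap_apply R (R ⧸ x.asIdeal) x.asIdeal.ResidueField]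
    exact (map_mul _ _ _).symm.trans (congrArg _ hw)

lemma residueFieldMap_toResidue (x : Spec (CommRingCat.of B)) (a : A) :
    (Spec.map (CommRingCat.ofHom φ)).residueFieldMap x
        (toResidue ((Spec.map (CommRingCat.ofHom φ)) x) a) = toResidue x (φ a) := by
  have h : toResidue ((Spec.map (CommRingCat.ofHom φ)) x) ≫
      (Spec.map (CommRingCat.ofHom φ)).residueFieldMap x = CommRingCat.ofHom φ ≫ toResidue x := by
    apply Spec.map_injective
    rw [Spec.map_comp, Spec.map_comp, SpecMap_toResidue, SpecMap_toResidue,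
      Scheme.Hom.SpecMap_residueFieldMap_fromSpecResidueField]
  exact congrArg (fun f => f.hom a) h

theorem residueFieldMap_surjective_iff :
    (∀ x : Spec (CommRingCat.of B),
        Function.Surjective ((Spec.map (CommRingCat.ofHom φ)).residueFieldMap x)) ↔ Triv φ := by
  constructor
  · intro h q hq b
    let x : Spec (CommRingCat.of B) := ⟨q, hq⟩
    obtain ⟨w, hw⟩ := h x (toResidue x b)
    obtain ⟨a, s, hs, has⟩ := toResidue_frac _ w
    refine ⟨a, s, hs, ?_⟩
    have := congrArg ((Spec.map (CommRingCat.ofHom φ)).residueFieldMap x) has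
    rw [map_mul, residueFieldMap_toResidue, residueFieldMap_toResidue, hw] at this
    refine (toResidue_eq_zero x _).1 ?_
    rw [map_sub, map_mul, sub_eq_zero, mul_comm]
    exact this
  · intro h x z
    obtain ⟨b, t, ht, hz⟩ := toResidue_frac x z
    obtain ⟨a, s, hs, hb⟩ := h x.asIdeal x.2 b
    obtain ⟨a', s', hs', hb'⟩ := h x.asIdeal x.2 t
    let y := (Spec.map (CommRingCat.ofHom φ)) x
    have ha' : a' ∉ y.asIdeal := by
      intro hmem
      have h1 : φ s' * t ∈ x.asIdeal := by
        have := x.asIdeal.add_mem hb' (show φ a' ∈ x.asIdeal from hmem)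
        rwa [sub_add_cancel] at this
      exact (x.2.mem_or_mem h1).elim hs' ht
    refine ⟨toResidue y a * toResidue y s' * (toResidue y s * toResidue y a')⁻¹, ?_⟩
    have e1 := (toResidue_eq_zero x _).2 hb
    have e2 := (toResidue_eq_zero x _).2 hb'
    rw [map_sub, map_mul, sub_eq_zero] at e1 e2
    have n1 : toResidue x (φ s) ≠ 0 := fun h0 => hs ((toResidue_eq_zero x _).1 h0)
    have n2 : toResidue x (φ a') ≠ 0 := fun h0 => ha' ((toResidue_eq_zero x _).1 h0)
    rw [map_mul, map_mul, map_inv₀, map_mul]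
    rw [residueFieldMap_toResidue φ x a, residueFieldMap_toResidue φ x s', residueFieldMap_toResidue φ x s,
      residueFieldMap_toResidue φ x a']
    rw [← div_eq_mul_inv, div_eq_iff (mul_ne_zero n1 n2), ← e1, ← e2, ← hz]
    ring

end

end Groth.Agent.UnivHomeo
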