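import Mathlib.RingTheory.Ideal.GoingUp
import Mathlib.FieldTheory.IsAlgClosed.Basic
import Mathlib.FieldTheory.IsAlgClosed.AlgebraicClosure
import Mathlib.FieldTheory.PurelyInseparable.Basic
import Mathlib.RingTheory.Localization.FractionRing
import Mathlib.RingTheory.Ideal.MinimalPrime.Basic

/-!
Ring theory of universal homeomorphisms (Stacks, tag 0CN6 and following): radicial maps, the
closure properties of `x², x³` and `p x, x^p`, and the theorem that a subring closed under
these operations below an integral radicial extension is everything.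
-/

set_option autoImplicit false
set_option linter.unusedSectionVars false

namespace Groth.Agent.UnivHomeo

universe u

open Polynomial

variable {A B : Type u} [CommRing A] [CommRing B]

/-- radicial ring map: injective on field-valued points -/
def Rad (φ : A →+* B) : Prop :=
  ∀ (K : Type u) [Field K] (g₁ g₂ : B →+* K), g₁.comp φ = g₂.comp φ → g₁ = g₂

/-- trivial residue field extensions -/
def Triv (φ : A →+* B) : Prop :=
  ∀ q : Ideal B, q.IsPrime → ∀ b : B, ∃ a s : A, φ s ∉ q ∧ φ s * b - φ a ∈ q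

/-- homomorphisms into algebraically closed fields extend along integral maps -/
lemma exists_extend {R S L : Type u} [CommRing R] [CommRing S] [Field L] [IsAlgClosed L]
    (f : R →+* S) (hint : f.IsIntegral) (g : R →+* L) (hker : RingHom.ker f ≤ RingHom.ker g) :
    ∃ G : S →+* L, G.comp f = g := by
  letI : Algebra R S := f.toAlgebra
  haveI : Algebra.IsIntegral R S := ⟨hint⟩
  haveI hP : (RingHom.ker g).IsPrime := RingHom.ker_isPrime g
  obtain ⟨Q, -, hQ, hQc⟩ := Ideal.exists_ideal_over_prime_of_isIntegral (RingHom.ker g) (⊥ : Ideal S)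
    (by rwa [← RingHom.ker_eq_comap_bot])
  let g' : R ⧸ RingHom.ker g →+* L := RingHom.kerLift g
  let f' : R ⧸ RingHom.ker g →+* S ⧸ Q := Ideal.quotientMap Q f hQc.ge
  have hf' : Function.Injective f' := Ideal.quotientMap_injective' hQc.le
  letI : Algebra (R ⧸ RingHom.ker g) (S ⧸ Q) := f'.toAlgebra
  letI : Algebra (R ⧸ RingHom.ker g) L := g'.toAlgebra
  haveI : Algebra.IsIntegral (R ⧸ RingHom.ker g) (S ⧸ Q) := ⟨fun x => by
    obtain ⟨x, rfl⟩ := Ideal.Quotient.mk_surjective x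
    obtain ⟨P, hP, hx⟩ := hint x
    refine ⟨P.map (Ideal.Quotient.mk _), hP.map _, ?_⟩
    rw [eval₂_map]
    have : (algebraMap (R ⧸ RingHom.ker g) (S ⧸ Q)).comp (Ideal.Quotient.mk _) =
        (Ideal.Quotient.mk Q).comp f := RingHom.ext fun r => rfl
    rw [this, ← hom_eval₂, hx, map_zero]⟩
  haveI : FaithfulSMul (R ⧸ RingHom.ker g) (S ⧸ Q) :=
    (faithfulSMul_iff_algebraMap_injective _ _).2 hf'
  haveI : FaithfulSMul (R ⧸ RingHom.ker g) L :=
    (faithfulSMul_iff_algebraMap_injective _ _).2 g.kerLift_injective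
  haveI : Algebra.IsAlgebraic (R ⧸ RingHom.ker g) (S ⧸ Q) := inferInstance
  let G' : (S ⧸ Q) →ₐ[R ⧸ RingHom.ker g] L := IsAlgClosed.lift
  refine ⟨G'.toRingHom.comp (Ideal.Quotient.mk Q), RingHom.ext fun r => ?_⟩
  exact G'.commutes (Ideal.Quotient.mk _ r)

lemma mem_of_pow_mem {C : Subring B} (h23 : ∀ x : B, x ^ 2 ∈ C → x ^ 3 ∈ C → x ∈ C) {z : B} {N : ℕ}
    (h : ∀ k, N + 1 ≤ k → z ^ k ∈ C) : z ∈ C := by
  induction N with
  | zero => simpa using h 1 le_rfl
  | succ N ih =>
    refine ih fun k hk => ?_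
    rcases Nat.lt_or_ge k (N + 1 + 1) with hk' | hk'
    · refine h23 _ ?_ ?_ <;> rw [← pow_mul] <;> apply h <;> omega
    · exact h k hk'

/-- localisation of a subring -/
def locSub (D : Subring B) (S : Submonoid B) (hS : ∀ s ∈ S, s ∈ D) : Subring (Localization S) where
  carrier := {x | ∃ y ∈ D, ∃ s ∈ S, x * algebraMap B _ s = algebraMap B _ y}
  one_mem' := ⟨1, D.one_mem, 1, S.one_mem, by simp⟩
  zero_mem' := ⟨0, D.zero_mem, 1, S.one_mem, by simp⟩
  mul_mem' := by
    rintro x y ⟨a, ha, s, hs, hx⟩ ⟨c, hc, t, ht, hy⟩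
    exact ⟨a * c, D.mul_mem ha hc, s * t, S.mul_mem hs ht,
      by rw [map_mul, map_mul, ← hx, ← hy]; ring⟩
  add_mem' := by
    rintro x y ⟨a, ha, s, hs, hx⟩ ⟨c, hc, t, ht, hy⟩
    exact ⟨a * t + c * s, D.add_mem (D.mul_mem ha (hS t ht)) (D.mul_mem hc (hS s hs)), s * t,
      S.mul_mem hs ht, by rw [map_add, map_mul, map_mul, map_mul, ← hx, ← hy]; ring⟩
  neg_mem' := by
    rintro x ⟨a, ha, s, hs, hx⟩
    exact ⟨-a, D.neg_mem ha, s, hs, by rw [map_neg, ← hx]; ring⟩

lemma algebraMap_algClosure_injective (D : Type u) [CommRing D] [IsDomain D] :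
    Function.Injective (algebraMap D (AlgebraicClosure (FractionRing D))) := by
  rw [IsScalarTower.algebraMap_eq D (FractionRing D) (AlgebraicClosure (FractionRing D))]
  rw [RingHom.coe_comp]
  exact (algebraMap (FractionRing D) (AlgebraicClosure (FractionRing D))).injective.comp
    (IsFractionRing.injective D (FractionRing D))

section core

variable (φ : A →+* B) (C : Subring B)

set_option maxHeartbeats 1000000 in
theorem eq_top_of_closed (hint : φ.IsIntegral) (hrad : Rad φ) (hrange : φ.range ≤ C)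
    (h23 : ∀ x : B, x ^ 2 ∈ C → x ^ 3 ∈ C → x ∈ C)
    (hk : Triv φ ∨ ∀ p : ℕ, p.Prime → ∀ x : B, (p : B) * x ∈ C → x ^ p ∈ C → x ∈ C) : C = ⊤ := by
  rw [eq_top_iff]
  rintro b -
  let D : Subring B := (eval₂RingHom C.subtype b).range
  have hCD : C ≤ D := fun c hc => ⟨Polynomial.C ⟨c, hc⟩, eval₂_C _ _⟩
  have hbD : b ∈ D := ⟨X, eval₂_X _ _⟩
  let J : Ideal C :=
    { carrier := {c | ∀ x ∈ D, (c : B) * x ∈ C}
      zero_mem' := fun x _ => by simp
      add_mem' := fun {a c} ha hc x hx => by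
        push_cast; rw [add_mul]; exact C.add_mem (ha x hx) (hc x hx)
      smul_mem' := fun r c hc x hx => by
        simp only [smul_eq_mul, Subring.coe_mul, mul_assoc]
        exact C.mul_mem r.2 (hc x hx) }
  suffices hJ : J = ⊤ by
    have := (hJ ▸ Submodule.mem_top : (1 : C) ∈ J) b hbD
    simpa using this
  by_contra hJ
  obtain ⟨M, hM, hJM⟩ := Ideal.exists_le_maximal J hJ
  obtain ⟨P, hP, -⟩ := Ideal.exists_minimalPrimes_le hJM
  haveI : P.IsPrime := hP.1.1
  let S : Submonoid B := P.primeCompl.map C.subtype.toMonoidHom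
  have hS : ∀ s ∈ S, s ∈ C := by rintro _ ⟨s, -, rfl⟩; exact s.2
  have hSP : ∀ s : C, (s : B) ∈ S → s ∉ P := by
    rintro s ⟨t, ht, hts⟩; exact (Subtype.ext hts : t = s) ▸ ht
  have hnilJ : ∀ c : C, c ∈ P → ∃ N : ℕ, ∃ t : C, t ∉ P ∧ t * c ^ N ∈ J := by
    intro c hc
    by_contra hcon
    push Not at hcon
    have hdis : Disjoint (J : Set C) (↑(Submonoid.powers c ⊔ P.primeCompl) : Set C) := by
      rw [Set.disjoint_left]
      intro x hxJ hx
      obtain ⟨y, ⟨N, rfl⟩, t, ht, rfl⟩ := Submonoid.mem_sup.1 hx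
      exact hcon N t ht (by rw [mul_comm]; exact hxJ)
    obtain ⟨Q, hQ, hJQ, hQd⟩ := Ideal.exists_le_prime_disjoint J _ hdis
    have hQP : Q ≤ P := fun x hx => by
      by_contra hxP
      exact Set.disjoint_left.1 hQd hx
        (Submonoid.mem_sup_right (S := Submonoid.powers c) (T := P.primeCompl) hxP)
    exact Set.disjoint_left.1 hQd (hP.2 ⟨hQ, hJQ⟩ hQP hc)
      (Submonoid.mem_sup_left (Submonoid.mem_powers c))
  -- the localisation
  set l := algebraMap B (Localization S) with hl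
  have hlu : ∀ s ∈ S, IsUnit (l s) := fun s hs =>
    IsLocalization.map_units (Localization S) ⟨s, hs⟩
  let C' := locSub C S hS
  let R := locSub D S (fun s hs => hCD (hS s hs))
  have hC'R : ∀ x ∈ C', x ∈ R := fun x ⟨a, ha, s, hs, h⟩ => ⟨a, hCD ha, s, hs, h⟩
  have hlC : ∀ a ∈ C, l a ∈ C' := fun a ha => ⟨a, ha, 1, S.one_mem, by simp [hl]⟩
  have h23' : ∀ x, x ^ 2 ∈ C' → x ^ 3 ∈ C' → x ∈ C' := by
    intro x ⟨a, ha, s, hs, h2⟩ ⟨c, hc, t, ht, h3⟩
    obtain ⟨⟨y, w⟩, hy⟩ := IsLocalization.surj S x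
    have e2 : l (y ^ 2 * s) = l (a * (w : B) ^ 2) := by
      rw [map_mul, map_mul, map_pow, map_pow, ← h2, ← hy]; ring
    have e3 : l (y ^ 3 * t) = l (c * (w : B) ^ 3) := by
      rw [map_mul, map_mul, map_pow, map_pow, ← h3, ← hy]; ring
    obtain ⟨v, hv⟩ := IsLocalization.exists_of_eq (M := S) e2
    obtain ⟨v', hv'⟩ := IsLocalization.exists_of_eq (M := S) e3
    have hzC : y * (s * t * v * v') ∈ C := by
      refine h23 _ ?_ ?_
      · have : (y * (s * t * v * v')) ^ 2 = a * (w : B) ^ 2 * v * (s * t ^ 2 * v * v' ^ 2) := by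
          linear_combination (s * t ^ 2 * (v : B) * v' ^ 2) * hv
        rw [this]
        exact C.mul_mem (C.mul_mem (C.mul_mem ha (C.pow_mem (hS _ w.2) 2)) (hS _ v.2))
          (C.mul_mem (C.mul_mem (C.mul_mem (hS _ hs) (C.pow_mem (hS _ ht) 2)) (hS _ v.2))
            (C.pow_mem (hS _ v'.2) 2))
      · have : (y * (s * t * v * v')) ^ 3 =
            c * (w : B) ^ 3 * v' * (s ^ 3 * t ^ 2 * v ^ 3 * v' ^ 2) := by
          linear_combination (s ^ 3 * t ^ 2 * (v : B) ^ 3 * v' ^ 2) * hv'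
        rw [this]
        exact C.mul_mem (C.mul_mem (C.mul_mem hc (C.pow_mem (hS _ w.2) 3)) (hS _ v'.2))
          (C.mul_mem (C.mul_mem (C.mul_mem (C.pow_mem (hS _ hs) 3) (C.pow_mem (hS _ ht) 2))
            (C.pow_mem (hS _ v.2) 3)) (C.pow_mem (hS _ v'.2) 2))
    refine ⟨_, hzC, _, S.mul_mem w.2 (S.mul_mem (S.mul_mem (S.mul_mem hs ht) v.2) v'.2), ?_⟩
    have hy' : x * l w = l y := hy
    rw [← hl]
    simp only [map_mul]
    rw [← hy']; ring
  have hp' : (∀ p : ℕ, p.Prime → ∀ x : B, (p : B) * x ∈ C → x ^ p ∈ C → x ∈ C) →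
      ∀ p : ℕ, p.Prime → ∀ x, (p : Localization S) * x ∈ C' → x ^ p ∈ C' → x ∈ C' := by
    intro hk p hp x ⟨a, ha, s, hs, h2⟩ ⟨c, hc, t, ht, h3⟩
    obtain ⟨⟨y, w⟩, hy⟩ := IsLocalization.surj S x
    have e2 : l ((p : B) * y * s) = l (a * (w : B)) := by
      rw [map_mul, map_mul, map_mul, map_natCast, ← h2, ← hy]; ring
    have e3 : l (y ^ p * t) = l (c * (w : B) ^ p) := by
      rw [map_mul, map_mul, map_pow, map_pow, ← h3, ← hy]; ring
    obtain ⟨v, hv⟩ := IsLocalization.exists_of_eq (M := S) e2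
    obtain ⟨v', hv'⟩ := IsLocalization.exists_of_eq (M := S) e3
    obtain ⟨q, rfl⟩ : ∃ q, p = q + 1 := ⟨p - 1, by have := hp.pos; omega⟩
    have hzC : y * (s * t * v * v') ∈ C := by
      refine hk _ hp _ ?_ ?_
      · have : ((q + 1 : ℕ) : B) * (y * (s * t * v * v')) = a * (w : B) * v * (t * v') := by
          linear_combination (t * (v' : B)) * hv
        rw [this]
        exact C.mul_mem (C.mul_mem (C.mul_mem ha (hS _ w.2)) (hS _ v.2))
          (C.mul_mem (hS _ ht) (hS _ v'.2))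
      · have : (y * (s * t * v * v')) ^ (q + 1) =
            c * (w : B) ^ (q + 1) * v' * (s ^ (q + 1) * t ^ q * v ^ (q + 1) * v' ^ q) := by
          rw [mul_pow, mul_pow, mul_pow, mul_pow]
          linear_combination (s ^ (q + 1) * t ^ q * (v : B) ^ (q + 1) * v' ^ q) * hv'
        rw [this]
        exact C.mul_mem (C.mul_mem (C.mul_mem hc (C.pow_mem (hS _ w.2) _)) (hS _ v'.2))
          (C.mul_mem (C.mul_mem (C.mul_mem (C.pow_mem (hS _ hs) _) (C.pow_mem (hS _ ht) _))
            (C.pow_mem (hS _ v.2) _)) (C.pow_mem (hS _ v'.2) _))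
    refine ⟨_, hzC, _, S.mul_mem w.2 (S.mul_mem (S.mul_mem (S.mul_mem hs ht) v.2) v'.2), ?_⟩
    have hy' : x * l w = l y := hy
    rw [← hl]
    simp only [map_mul]
    rw [← hy']; ring
  -- b is not in C'
  have hbC' : l b ∉ C' := by
    rintro ⟨a, ha, s, hs, h⟩
    rw [← hl, ← map_mul] at h
    obtain ⟨v, hv⟩ := IsLocalization.exists_of_eq (M := S) h
    obtain ⟨Pb, hPb, hb⟩ := hint b
    let φC : A →+* C := φ.codRestrict C (fun x => hrange ⟨x, rfl⟩)
    let g : Polynomial C := Pb.map φC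
    have hg : g.Monic := hPb.map _
    have hgb : eval₂ C.subtype b g = 0 := by
      rw [eval₂_map]
      exact hb
    let t : C := ⟨(v : B) * s, C.mul_mem (hS _ v.2) (hS _ hs)⟩
    have ht : t ∉ P := hSP t (S.mul_mem v.2 hs)
    have htb : (t : B) * b ∈ C := by
      have : (t : B) * b = v * a := by
        change (v : B) * s * b = v * a
        linear_combination hv
      rw [this]; exact C.mul_mem (hS _ v.2) ha
    have htJ : t ^ g.natDegree ∈ J := by
      intro x hx
      obtain ⟨f, rfl⟩ := hx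
      change ((t ^ g.natDegree : C) : B) * eval₂ C.subtype b f ∈ C
      by_cases hg1 : g = 1
      · rw [hg1, eval₂_one] at hgb
        have hz : ∀ z : B, z = 0 := fun z => by
          rw [← mul_one z, hgb, mul_zero]
        rw [hz (_ * _)]; exact C.zero_mem
      have hdiv : eval₂ C.subtype b f = eval₂ C.subtype b (f %ₘ g) := by
        conv_lhs => rw [← modByMonic_add_div f g, eval₂_add, eval₂_mul, hgb, zero_mul, add_zero]
      rw [hdiv, eval₂_eq_sum_range, Finset.mul_sum]
      refine C.sum_mem fun k hk => ?_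
      have hkd : k < g.natDegree := lt_of_le_of_lt (Nat.lt_succ_iff.1 (Finset.mem_range.1 hk))
        (natDegree_modByMonic_lt f hg hg1)
      have : ((t ^ g.natDegree : C) : B) * (C.subtype ((f %ₘ g).coeff k) * b ^ k) =
          C.subtype ((f %ₘ g).coeff k) * (t : B) ^ (g.natDegree - k) * ((t : B) * b) ^ k := by
        push_cast
        conv_lhs => rw [← Nat.sub_add_cancel hkd.le, pow_add]
        ring
      rw [this]
      exact C.mul_mem (C.mul_mem ((f %ₘ g).coeff k).2 (C.pow_mem t.2 _)) (C.pow_mem htb _)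
    exact ht (‹P.IsPrime›.mem_of_pow_mem _ (hP.1.2 htJ))
  -- the maximal ideal
  let m : Set (Localization S) := {x | ∃ a : C, a ∈ P ∧ ∃ s ∈ S, x * l s = l a}
  have hmC' : ∀ x ∈ m, x ∈ C' := fun x ⟨a, _, s, hs, h⟩ => ⟨a, a.2, s, hs, h⟩
  have hm1 : (1 : Localization S) ∉ m := by
    rintro ⟨a, ha, s, hs, h⟩
    rw [one_mul] at h
    obtain ⟨v, hv⟩ := IsLocalization.exists_of_eq (M := S) h
    have hs' : (⟨s, hS _ hs⟩ : C) ∉ P := hSP _ hs
    have hv' : (⟨v, hS _ v.2⟩ : C) ∉ P := hSP _ v.2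
    have he : (⟨v, hS _ v.2⟩ : C) * ⟨s, hS _ hs⟩ = ⟨v, hS _ v.2⟩ * a := Subtype.ext hv
    have hmem : (⟨v, hS _ v.2⟩ : C) * a ∈ P := P.mul_mem_left _ ha
    rw [← he] at hmem
    exact ((‹P.IsPrime›.mem_or_mem hmem).elim hv' hs')
  have hmabs : ∀ x ∈ m, ∀ c ∈ C', x * c ∈ m := by
    rintro x ⟨a, ha, s, hs, h⟩ c ⟨d, hd, t, ht, h'⟩
    exact ⟨a * ⟨d, hd⟩, P.mul_mem_right _ ha, s * t, S.mul_mem hs ht,
      by push_cast; rw [map_mul, map_mul, ← h, ← hl] at *; rw [← h']; ring⟩
  have hunit : ∀ x ∈ C', x ∉ m → ∃ y ∈ C', x * y = 1 := by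
    rintro x ⟨a, ha, s, hs, h⟩ hx
    have haP : (⟨a, ha⟩ : C) ∉ P := fun haP => hx ⟨_, haP, s, hs, h⟩
    have haS : a ∈ S := ⟨⟨a, ha⟩, haP, rfl⟩
    let y := IsLocalization.mk' (Localization S) s (⟨a, haS⟩ : S)
    have hy : y * l a = l s := IsLocalization.mk'_spec _ _ _
    refine ⟨y, ⟨s, hS _ hs, a, haS, hy⟩, (hlu a haS).mul_right_cancel ?_⟩
    rw [mul_assoc, hy, one_mul]; exact h
  have step1 : ∀ x ∈ m, ∀ z ∈ R, x * z ∈ C' := by
    rintro x ⟨a, ha, s, hs, h⟩ z ⟨y, hy, u, hu, hz⟩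
    obtain ⟨N, t, ht, htJ⟩ := hnilJ a ha
    refine mem_of_pow_mem (C := C') h23' (z := x * z) (N := N) fun k hk => ?_
    refine ⟨(a : B) ^ (k - N) * (((t * a ^ N : C) : B) * y ^ k),
      C.mul_mem (C.pow_mem a.2 _) (htJ _ (D.pow_mem hy k)),
      (s * u) ^ k * t, S.mul_mem (pow_mem (S.mul_mem hs hu) k) ⟨t, ht, rfl⟩, ?_⟩
    rw [← hl] at hz
    have hpow : (a : B) ^ (k - N) * ((t : B) * (a : B) ^ N * y ^ k) = (a : B) ^ k * y ^ k * t := by
      have : (a : B) ^ k = (a : B) ^ (k - N) * (a : B) ^ N := by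
        rw [← pow_add, Nat.sub_add_cancel (by omega)]
      rw [this]; ring
    change (x * z) ^ k * l ((s * u) ^ k * t) =
      l ((a : B) ^ (k - N) * ((t : B) * (a : B) ^ N * y ^ k))
    rw [hpow]
    simp only [map_mul, map_pow]
    rw [← h, ← hz]; ring
  have hmR : ∀ x ∈ m, ∀ z ∈ R, x * z ∈ m := by
    intro x hx z hz
    by_contra hn
    obtain ⟨y, hy, hxy⟩ := hunit _ (step1 x hx z hz) hn
    have hw : z * y ∈ R := R.mul_mem hz (hC'R y hy)
    have h1 : x * ((z * y) * (z * y)) ∈ C' := step1 x hx _ (R.mul_mem hw hw)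
    rw [show x * ((z * y) * (z * y)) = (x * z * y) * (z * y) by ring, hxy, one_mul] at h1
    have := hmabs x hx _ h1
    rw [show x * (z * y) = x * z * y by ring, hxy] at this
    exact hm1 this
  have hmsq : ∀ z ∈ R, z ^ 2 ∈ m → z ∈ m := by
    intro z hz h2
    have h3 : z ^ 3 ∈ m := by
      rw [show z ^ 3 = z ^ 2 * z by ring]; exact hmR _ h2 z hz
    have hzC : z ∈ C' := h23' z (hmC' _ h2) (hmC' _ h3)
    by_contra hn
    obtain ⟨y, hy, hzy⟩ := hunit z hzC hn
    have := hmabs _ h2 _ (C'.mul_mem hy hy)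
    rw [show z ^ 2 * (y * y) = (z * y) * (z * y) by ring, hzy, one_mul] at this
    exact hm1 this
  let Q : Ideal R :=
    { carrier := {z | (z : Localization S) ∈ m}
      zero_mem' := ⟨0, P.zero_mem, 1, S.one_mem, by simp⟩
      add_mem' := by
        rintro x y ⟨a, ha, s, hs, h⟩ ⟨c, hc, t, ht, h'⟩
        exact ⟨a * ⟨t, hS _ ht⟩ + c * ⟨s, hS _ hs⟩,
          P.add_mem (P.mul_mem_right _ ha) (P.mul_mem_right _ hc), s * t, S.mul_mem hs ht,
          by push_cast; rw [map_add, map_mul, map_mul, map_mul, ← h, ← h']; ring⟩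
      smul_mem' := fun r x hx => by
        change (r : Localization S) * x ∈ m
        rw [mul_comm]; exact hmR _ hx _ r.2 }
  have hQrad : Q.IsRadical := by
    intro z ⟨n, hn⟩
    induction n using Nat.strong_induction_on generalizing z with
    | _ n ih =>
      rcases n with _ | _ | n
      · exact absurd (by simpa [Q] using hn) hm1
      · simpa using hn
      · have hlt : (n + 2 + 1) / 2 < n + 2 := by omega
        refine ih _ hlt ?_
        change ((z ^ ((n + 2 + 1) / 2) : R) : Localization S) ∈ m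
        refine hmsq _ (z ^ ((n + 2 + 1) / 2) : R).2 ?_
        rw [← SubmonoidClass.coe_pow, ← pow_mul,
          ← Nat.sub_add_cancel (show n + 2 ≤ (n + 2 + 1) / 2 * 2 by omega), pow_add]
        exact Q.mul_mem_left _ hn
  -- integrality over C'
  let incl : C' →+* R := Subring.inclusion hC'R
  let φ' : A →+* C' := (l.comp φ).codRestrict C' (fun x => hlC _ (hrange ⟨x, rfl⟩))
  have hintB : (C'.subtype).IsIntegral := by
    intro x
    obtain ⟨⟨y, w⟩, hy⟩ := IsLocalization.surj S x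
    have hw : ∃ w' ∈ C', l w * w' = 1 := hunit _ (hlC _ (hS _ w.2)) (by
      rintro ⟨a, ha, s, hs, h⟩
      refine hm1 ?_
      have e : (1 : Localization S) * l ((w : B) * s) = l (a : B) := by
        rw [one_mul, map_mul]; exact h
      exact ⟨a, ha, _, S.mul_mem w.2 hs, e⟩)
    obtain ⟨w', hw', hww⟩ := hw
    have hx : x = l y * (C'.subtype ⟨w', hw'⟩) := by
      rw [← hy]
      change x = x * l w * w'
      rw [mul_assoc, hww, mul_one]
    rw [hx]
    refine RingHom.IsIntegralElem.mul C'.subtype ?_ (RingHom.isIntegralElem_map _)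
    obtain ⟨F, hF, hFy⟩ := hint y
    refine ⟨F.map φ', hF.map _, ?_⟩
    rw [eval₂_map, show C'.subtype.comp φ' = l.comp φ from rfl, ← hom_eval₂, hFy, map_zero]
  have huniq : ∀ (L : Type u) [Field L] [IsAlgClosed L] (g₁ g₂ : R →+* L),
      g₁.comp incl = g₂.comp incl → g₁ = g₂ := by
    intro L _ _ g₁ g₂ h
    have hext : ∀ g : R →+* L, ∃ G : Localization S →+* L, G.comp R.subtype = g := by
      intro g
      refine exists_extend R.subtype ?_ g ?_
      · intro x
        obtain ⟨F, hF, hFx⟩ := hintB x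
        refine ⟨F.map incl, hF.map _, ?_⟩
        rw [eval₂_map]; exact hFx
      · intro x hx
        rw [(Subtype.ext hx : x = 0)]; exact Submodule.zero_mem _
    obtain ⟨G₁, hG₁⟩ := hext g₁
    obtain ⟨G₂, hG₂⟩ := hext g₂
    have hA : (G₁.comp l).comp φ = (G₂.comp l).comp φ := RingHom.ext fun a => by
      have := RingHom.congr_fun h (φ' a)
      rw [← hG₁, ← hG₂] at this
      exact this
    have := hrad L _ _ hA
    rw [← hG₁, ← hG₂, IsLocalization.ringHom_ext S this]
  have hQne : Q ≠ ⊤ := fun h => hm1 ((h ▸ Submodule.mem_top : (1 : R) ∈ Q))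
  let m' : Ideal C' := Q.comap incl
  have hm'max : m'.IsMaximal := by
    rw [Ideal.isMaximal_iff]
    refine ⟨hm1, fun I x hI hx hxI => ?_⟩
    obtain ⟨y, hy, hxy⟩ := hunit x x.2 hx
    rw [← show x * ⟨y, hy⟩ = 1 from Subtype.ext hxy]
    exact I.mul_mem_right _ hxI
  have hQprime : Q.IsPrime := by
    obtain ⟨Q₁, hQ₁, hle⟩ := Ideal.exists_le_maximal Q hQne
    have key : ∀ Q₂ : Ideal R, Q₂.IsPrime → Q ≤ Q₂ → Q₂ = Q₁ := by
      intro Q₂ hQ₂ hle₂
      let L := AlgebraicClosure (FractionRing (R ⧸ Q₁))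
      haveI := hQ₁.isPrime
      let g₁ : R →+* L := (algebraMap (R ⧸ Q₁) L).comp (Ideal.Quotient.mk Q₁)
      have hg₁ : RingHom.ker g₁ = Q₁ := by
        ext x
        rw [RingHom.mem_ker, RingHom.comp_apply, map_eq_zero_iff _
          (algebraMap_algClosure_injective _), Ideal.Quotient.eq_zero_iff_mem]
      have hc : ∀ Q' : Ideal R, Q ≤ Q' → Q' ≠ ⊤ → Q'.comap incl = m' := fun Q' h1 h2 =>
        (hm'max.eq_of_le (Ideal.comap_ne_top _ h2) (Ideal.comap_mono h1)).symm
      have hi : ((Ideal.Quotient.mk Q₂).comp incl).IsIntegral := by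
        intro x
        obtain ⟨x, rfl⟩ := Ideal.Quotient.mk_surjective x
        obtain ⟨F, hF, hFx⟩ := hintB x.1
        refine ⟨F, hF, ?_⟩
        rw [← hom_eval₂]
        convert map_zero (Ideal.Quotient.mk Q₂)
        apply Subtype.ext
        change R.subtype (eval₂ incl x F) = 0
        rw [hom_eval₂]
        exact hFx
      obtain ⟨G, hG⟩ := exists_extend ((Ideal.Quotient.mk Q₂).comp incl) hi (g₁.comp incl) (by
        rw [← RingHom.comap_ker, Ideal.mk_ker, ← RingHom.comap_ker, hg₁, hc Q₂ hle₂ hQ₂.ne_top,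
          hc Q₁ hle hQ₁.ne_top])
      have heq := huniq L g₁ (G.comp (Ideal.Quotient.mk Q₂)) (hG.symm.trans (RingHom.comp_assoc _ _ _).symm)
      have h12 : Q₂ ≤ Q₁ := by
        intro x hx
        rw [← hg₁, RingHom.mem_ker, heq, RingHom.comp_apply, Ideal.Quotient.eq_zero_iff_mem.2 hx,
          map_zero]
      have hmax2 : Q₂.IsMaximal := by
        letI : Algebra C' R := incl.toAlgebra
        haveI : Algebra.IsIntegral C' R := ⟨fun x => by
          obtain ⟨F, hF, hFx⟩ := hintB x.1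
          refine ⟨F, hF, Subtype.ext ?_⟩
          change R.subtype (eval₂ incl x F) = 0
          rw [hom_eval₂]
          exact hFx⟩
        haveI := hQ₂
        refine Ideal.isMaximal_of_isIntegral_of_isMaximal_comap (R := C') Q₂ ?_
        change (Q₂.comap incl).IsMaximal
        rw [hc Q₂ hle₂ hQ₂.ne_top]; exact hm'max
      exact hmax2.eq_of_le hQ₁.ne_top h12
    have : Q = Q₁ := by
      refine le_antisymm hle ?_
      rw [← hQrad.radical, Ideal.radical_eq_sInf]
      exact le_sInf fun Q₂ ⟨h1, h2⟩ => (key Q₂ h2 h1).ge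
    rw [this]; exact hQ₁.isPrime
  haveI := hQprime
  -- every element of R lies in C'
  have hfin : ∀ z : R, ∀ c : C', z - incl c ∈ Q → (z : Localization S) ∈ C' := by
    intro z c h
    have h1 := C'.add_mem (hmC' _ h) c.2
    change (z : Localization S) - c + c ∈ C' at h1
    rwa [sub_add_cancel] at h1
  refine hbC' ?_
  let z : R := ⟨l b, ⟨b, hbD, 1, S.one_mem, by simp [hl]⟩⟩
  let L := AlgebraicClosure (FractionRing (R ⧸ Q))
  let g : R →+* L := (algebraMap (R ⧸ Q) L).comp (Ideal.Quotient.mk Q)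
  have hg : ∀ x, g x = 0 ↔ x ∈ Q := fun x => by
    rw [RingHom.comp_apply, map_eq_zero_iff _
      (algebraMap_algClosure_injective _), Ideal.Quotient.eq_zero_iff_mem]
  rcases hk with hk | hk
  · obtain ⟨G, hG⟩ := exists_extend R.subtype (fun x => by
      obtain ⟨F, hF, hFx⟩ := hintB x
      refine ⟨F.map incl, hF.map _, ?_⟩
      rw [eval₂_map]; exact hFx) g (fun x hx => by
        rw [(Subtype.ext hx : x = 0)]; exact Submodule.zero_mem _)
    obtain ⟨a, s, hs, has⟩ := hk (RingHom.ker (G.comp l)) (RingHom.ker_isPrime _) b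
    have hsS : φ s ∈ S := by
      refine ⟨⟨φ s, hrange ⟨s, rfl⟩⟩, fun hsP => hs ?_, rfl⟩
      have hmem : l (φ s) ∈ m := ⟨_, hsP, 1, S.one_mem, by simp⟩
      have hR : l (φ s) ∈ R := hC'R _ (hmC' _ hmem)
      rw [RingHom.mem_ker, RingHom.comp_apply]
      have := RingHom.congr_fun hG ⟨_, hR⟩
      exact this.trans ((hg _).2 hmem)
    let c : C' := ⟨IsLocalization.mk' (Localization S) (φ a) (⟨φ s, hsS⟩ : S),
      ⟨φ a, hrange ⟨a, rfl⟩, φ s, hsS, IsLocalization.mk'_spec _ _ _⟩⟩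
    refine hfin z c ((hg _).1 ?_)
    rw [map_sub, sub_eq_zero, ← hG, RingHom.comp_apply, RingHom.comp_apply]
    change G (l b) = G (c : Localization S)
    rw [RingHom.mem_ker, map_sub, map_mul, sub_eq_zero] at has
    refine ((hlu _ hsS).map G).mul_right_cancel ?_
    rw [← map_mul G (c : Localization S), IsLocalization.mk'_spec, mul_comm]
    exact has
  · haveI := hm'max
    letI : Field (C' ⧸ m') := Ideal.Quotient.field m'
    haveI : Q.IsMaximal := by
      letI : Algebra C' R := incl.toAlgebra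
      haveI : Algebra.IsIntegral C' R := ⟨fun x => by
        obtain ⟨F, hF, hFx⟩ := hintB x.1
        refine ⟨F, hF, Subtype.ext ?_⟩
        change R.subtype (eval₂ incl x F) = 0
        rw [hom_eval₂]
        exact hFx⟩
      exact Ideal.isMaximal_of_isIntegral_of_isMaximal_comap (R := C') Q hm'max
    letI : Field (R ⧸ Q) := Ideal.Quotient.field Q
    letI : Algebra (C' ⧸ m') (R ⧸ Q) := (Ideal.quotientMap Q incl le_rfl).toAlgebra
    haveI : Algebra.IsIntegral (C' ⧸ m') (R ⧸ Q) := ⟨fun x => by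
      obtain ⟨x, rfl⟩ := Ideal.Quotient.mk_surjective x
      obtain ⟨F, hF, hFx⟩ := hintB x.1
      refine ⟨F.map (Ideal.Quotient.mk m'), hF.map _, ?_⟩
      rw [eval₂_map]
      have : (algebraMap (C' ⧸ m') (R ⧸ Q)).comp (Ideal.Quotient.mk m') =
          (Ideal.Quotient.mk Q).comp incl := rfl
      rw [this, ← hom_eval₂]
      convert map_zero (Ideal.Quotient.mk Q)
      apply Subtype.ext
      change R.subtype (eval₂ incl x F) = 0
      rw [hom_eval₂]
      exact hFx⟩
    haveI : IsPurelyInseparable (C' ⧸ m') (R ⧸ Q) := by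
      rw [isPurelyInseparable_iff_subsingleton_emb, subsingleton_iff]
      intro σ₁ σ₂
      refine AlgHom.ext fun x => ?_
      obtain ⟨x, rfl⟩ := Ideal.Quotient.mk_surjective x
      refine RingHom.congr_fun (huniq _ (σ₁.toRingHom.comp (Ideal.Quotient.mk Q))
        (σ₂.toRingHom.comp (Ideal.Quotient.mk Q)) (RingHom.ext fun c => ?_)) x
      exact (σ₁.commutes (Ideal.Quotient.mk m' c)).trans (σ₂.commutes (Ideal.Quotient.mk m' c)).symm
    obtain ⟨n, hn⟩ := IsPurelyInseparable.pow_mem (C' ⧸ m')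
      (ringExpChar (C' ⧸ m')) (Ideal.Quotient.mk Q z)
    obtain ⟨c, hc⟩ := hn
    obtain ⟨c, rfl⟩ := Ideal.Quotient.mk_surjective c
    have hpow : (l b) ^ (ringExpChar (C' ⧸ m') ^ n) ∈ C' := by
      refine hfin (z ^ (ringExpChar (C' ⧸ m') ^ n)) c ?_
      rw [← Ideal.Quotient.mk_eq_mk_iff_sub_mem, map_pow, ← hc]
      rfl
    clear hc
    rcases CharP.exists (C' ⧸ m') with ⟨p, hp⟩
    rcases CharP.char_is_prime_or_zero (C' ⧸ m') p with hpp | hp0
    · haveI := Fact.mk hpp
      rw [ringExpChar.eq (C' ⧸ m') p] at hpow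
      have hpm : ((p : C') : Localization S) ∈ m := by
        have h0 : Ideal.Quotient.mk m' (p : C') = 0 := by rw [map_natCast]; exact CharP.cast_eq_zero _ p
        exact Ideal.Quotient.eq_zero_iff_mem.1 h0
      clear_value z
      induction n with
      | zero => simpa using hpow
      | succ n ih =>
        refine ih (hp' hk p hpp _ ?_ ?_)
        · have := step1 _ hpm _ (R.pow_mem (show l b ∈ R from ⟨b, hbD, 1, S.one_mem, by simp [hl]⟩) (p ^ n))
          simpa using this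
        · rw [← pow_mul, ← pow_succ]; exact hpow
    · subst hp0
      haveI := CharP.charP_to_charZero (C' ⧸ m')
      rw [ringExpChar.eq (C' ⧸ m') 1, one_pow, pow_one] at hpow
      exact hpow

end core

end Groth.Agent.UnivHomeo
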