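import Groth.Agent.UnivHomeo.Tower
import Mathlib.RingTheory.FinitePresentation
import Mathlib.RingTheory.Polynomial.Quotient

/-!
Ring-level universal homeomorphisms (`UH`): composition, quotients by nil ideals, adjoining
roots of `t² = x, t³ = y` and `t^p = x, p t = y`, subrings, and uniqueness of kernels.
-/

set_option autoImplicit false
set_option linter.unusedSectionVars false

namespace Groth.Agent.UnivHomeo

universe u

open Polynomial

/-- ring-theoretic universal homeomorphism -/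
def UH {A B : Type u} [CommRing A] [CommRing B] (φ : A →+* B) : Prop :=
  φ.IsIntegral ∧ Rad φ ∧ RingHom.ker φ ≤ nilradical A

variable {A B D : Type u} [CommRing A] [CommRing B] [CommRing D]

lemma ker_le_nilradical_of_lifts {φ : A →+* B}
    (h : ∀ (L : Type u) [Field L] [IsAlgClosed L] (g : A →+* L), ∃ G : B →+* L, G.comp φ = g) :
    RingHom.ker φ ≤ nilradical A := by
  rw [nilradical_eq_sInf]
  refine le_sInf fun P (hP : P.IsPrime) => ?_
  intro x hx
  let g : A →+* AlgebraicClosure (FractionRing (A ⧸ P)) :=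
    (algebraMap (A ⧸ P) _).comp (Ideal.Quotient.mk P)
  obtain ⟨G, hG⟩ := h _ g
  have h0 : g x = 0 := by rw [← hG, RingHom.comp_apply, RingHom.mem_ker.1 hx, map_zero]
  rw [RingHom.comp_apply, map_eq_zero_iff _ (algebraMap_algClosure_injective _),
    Ideal.Quotient.eq_zero_iff_mem] at h0
  exact h0

lemma eq_zero_of_isNilpotent_map {L : Type u} [Field L] (g : A →+* L) {x : A}
    (hx : x ∈ nilradical A) : g x = 0 :=
  ((mem_nilradical.1 hx).map g).eq_zero

lemma UH.exists_lift {φ : A →+* B} (h : UH φ) {L : Type u} [Field L] [IsAlgClosed L] (g : A →+* L) :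
    ∃ G : B →+* L, G.comp φ = g :=
  exists_extend φ h.1 g fun _ hx => eq_zero_of_isNilpotent_map g (h.2.2 hx)

lemma uh_id : UH (RingHom.id A) :=
  ⟨fun x => RingHom.isIntegralElem_map _, fun K _ g₁ g₂ hg => by simpa using hg,
    fun x hx => by
      have : x = 0 := hx
      rw [this]; exact Submodule.zero_mem _⟩

lemma UH.comp {φ : A →+* B} {ψ : B →+* D} (hφ : UH φ) (hψ : UH ψ) : UH (ψ.comp φ) :=
  ⟨RingHom.IsIntegral.trans φ ψ hφ.1 hψ.1,
    fun K _ g₁ g₂ hg => hψ.2.1 K g₁ g₂ (hφ.2.1 K _ _ (by rwa [RingHom.comp_assoc, RingHom.comp_assoc])),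
    ker_le_nilradical_of_lifts fun L _ _ g => by
      obtain ⟨G, hG⟩ := hφ.exists_lift g
      obtain ⟨H, hH⟩ := hψ.exists_lift G
      exact ⟨H, by rw [← RingHom.comp_assoc, hH, hG]⟩⟩

lemma uh_quotient (I : Ideal A) (hI : I ≤ nilradical A) : UH (Ideal.Quotient.mk I) :=
  ⟨RingHom.IsIntegral.of_finite (RingHom.Finite.of_surjective _ Ideal.Quotient.mk_surjective),
    fun K _ g₁ g₂ hg => by
      refine RingHom.ext fun x => ?_
      obtain ⟨x, rfl⟩ := Ideal.Quotient.mk_surjective x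
      exact RingHom.congr_fun hg x,
    by rw [Ideal.mk_ker]; exact hI⟩

lemma uh_adjoin {I : Ideal A[X]} (F : A[X]) (hF : F.Monic) (hFI : F ∈ I)
    (huniq : ∀ (K : Type u) [Field K] (g₁ g₂ : A[X] ⧸ I →+* K),
      g₁.comp (algebraMap A _) = g₂.comp (algebraMap A _) →
        g₁ (Ideal.Quotient.mk I X) = g₂ (Ideal.Quotient.mk I X))
    (hex : ∀ (L : Type u) [Field L] [IsAlgClosed L] (g : A →+* L),
      ∃ t : L, ∀ f ∈ I, f.eval₂ g t = 0) : UH (algebraMap A (A[X] ⧸ I)) := by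
  have hX : IsIntegral A (Ideal.Quotient.mk I X) := by
    refine ⟨F, hF, ?_⟩
    rw [show algebraMap A (A[X] ⧸ I) = (Ideal.Quotient.mk I).comp Polynomial.C from rfl,
      ← hom_eval₂, eval₂_C_X, Ideal.Quotient.eq_zero_iff_mem]
    exact hFI
  refine ⟨fun x => ?_, fun K _ g₁ g₂ hg => ?_, ker_le_nilradical_of_lifts fun L _ _ g => ?_⟩
  · obtain ⟨x, rfl⟩ := Ideal.Quotient.mk_surjective x
    change IsIntegral A (Ideal.Quotient.mk I x)
    induction x using Polynomial.induction_on' with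
    | add p q hp hq => rw [map_add]; exact hp.add hq
    | monomial n a =>
      rw [← C_mul_X_pow_eq_monomial, map_mul, map_pow]
      exact (isIntegral_algebraMap (x := a)).mul (hX.pow n)
  · refine Ideal.Quotient.ringHom_ext (Polynomial.ringHom_ext (fun a => ?_) (huniq K g₁ g₂ hg))
    exact RingHom.congr_fun hg a
  · obtain ⟨t, ht⟩ := hex L g
    refine ⟨Ideal.Quotient.lift I (eval₂RingHom g t) ht, RingHom.ext fun a => ?_⟩
    exact eval₂_C g t

lemma uh_adjoin_sq_cube (x y : A)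
    (h : ∀ (L : Type u) [Field L] (g : A →+* L), g x ^ 3 = g y ^ 2) :
    UH (algebraMap A (A[X] ⧸ Ideal.span ({X ^ 2 - C x, X ^ 3 - C y} : Set A[X]))) := by
  refine uh_adjoin (X ^ 2 - C x) (monic_X_pow_sub_C x two_ne_zero) (Ideal.subset_span (by simp))
    (fun K _ g₁ g₂ hg => ?_) (fun L _ _ g => ?_)
  · have e2 : (Ideal.Quotient.mk (Ideal.span ({X ^ 2 - C x, X ^ 3 - C y} : Set A[X])) X) ^ 2 =
        algebraMap A _ x := by
      rw [← map_pow]; exact Ideal.Quotient.eq.2 (Ideal.subset_span (by simp))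
    have e3 : (Ideal.Quotient.mk (Ideal.span ({X ^ 2 - C x, X ^ 3 - C y} : Set A[X])) X) ^ 3 =
        algebraMap A _ y := by
      rw [← map_pow]; exact Ideal.Quotient.eq.2 (Ideal.subset_span (by simp))
    refine eq_of_sq_cube ?_ ?_
    · rw [← map_pow g₁, ← map_pow g₂, e2]; exact RingHom.congr_fun hg x
    · rw [← map_pow g₁, ← map_pow g₂, e3]; exact RingHom.congr_fun hg y
  · obtain ⟨t, ht2, ht3⟩ : ∃ t : L, t ^ 2 = g x ∧ t ^ 3 = g y := by
      have hxy := h L g
      by_cases hx : g x = 0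
      · rw [hx, zero_pow three_ne_zero] at hxy
        exact ⟨0, by simp [hx], by simp [(pow_eq_zero_iff two_ne_zero).1 hxy.symm]⟩
      · exact ⟨g y / g x, by field_simp; linear_combination -hxy,
          by field_simp; linear_combination -(g y) * hxy⟩
    refine ⟨t, fun f hf => ?_⟩
    refine RingHom.mem_ker.1 ((Ideal.span_le (I := RingHom.ker (eval₂RingHom g t))).2 ?_ hf)
    rintro _ (rfl | rfl) <;> simp [ht2, ht3]

lemma uh_adjoin_pth (p : ℕ) (hp : p.Prime) (x y : A)
    (h : ∀ (L : Type u) [Field L] (g : A →+* L), (p : L) ^ p * g x = g y ^ p) :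
    UH (algebraMap A (A[X] ⧸ Ideal.span ({X ^ p - C x, C (p : A) * X - C y} : Set A[X]))) := by
  refine uh_adjoin (X ^ p - C x) (monic_X_pow_sub_C x hp.ne_zero) (Ideal.subset_span (by simp))
    (fun K _ g₁ g₂ hg => ?_) (fun L _ _ g => ?_)
  · have e2 : (Ideal.Quotient.mk (Ideal.span ({X ^ p - C x, C (p : A) * X - C y} : Set A[X])) X) ^ p =
        algebraMap A _ x := by
      rw [← map_pow]; exact Ideal.Quotient.eq.2 (Ideal.subset_span (by simp))
    have e3 : ((p : ℕ) : A[X] ⧸ Ideal.span ({X ^ p - C x, C (p : A) * X - C y} : Set A[X])) *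
        Ideal.Quotient.mk _ X = algebraMap A _ y := by
      rw [← map_natCast (Ideal.Quotient.mk _), ← map_mul, ← map_natCast Polynomial.C]
      exact Ideal.Quotient.eq.2 (Ideal.subset_span (by simp))
    refine eq_of_mul_pow hp ?_ ?_
    · rw [← map_natCast g₁, ← map_mul, e3]
      rw [map_natCast g₁, ← map_natCast g₂, ← map_mul, e3]
      exact RingHom.congr_fun hg y
    · rw [← map_pow g₁, ← map_pow g₂, e2]; exact RingHom.congr_fun hg x
  · obtain ⟨t, ht2, ht3⟩ : ∃ t : L, t ^ p = g x ∧ (p : L) * t = g y := by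
      have hxy := h L g
      by_cases hp0 : (p : L) = 0
      · obtain ⟨t, ht⟩ := IsAlgClosed.exists_pow_nat_eq (g x) hp.pos
        rw [hp0, zero_pow hp.ne_zero, zero_mul] at hxy
        exact ⟨t, ht, by rw [hp0, zero_mul, (pow_eq_zero_iff hp.ne_zero).1 hxy.symm]⟩
      · refine ⟨g y / (p : L), ?_, mul_div_cancel₀ _ hp0⟩
        rw [div_pow, ← hxy, mul_comm, mul_div_assoc, div_self (pow_ne_zero _ hp0), mul_one]
    refine ⟨t, fun f hf => ?_⟩
    refine RingHom.mem_ker.1 ((Ideal.span_le (I := RingHom.ker (eval₂RingHom g t))).2 ?_ hf)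
    rintro _ (rfl | rfl) <;> simp [ht2, ht3]

/-- anything under a UH ring map over `A` that itself lies UH over `A` has nil kernel -/
lemma ker_le_nilradical_of_tower {φ : A →+* B} {χ : A →+* D} (ψ : B →+* D) (hcomp : ψ.comp φ = χ)
    (hφ : UH φ) (hχ : UH χ) : RingHom.ker ψ ≤ nilradical B := by
  refine ker_le_nilradical_of_lifts fun L _ _ g => ?_
  obtain ⟨G, hG⟩ := hχ.exists_lift (g.comp φ)
  exact ⟨G, hφ.2.1 L _ _ (by rw [RingHom.comp_assoc, hcomp, hG])⟩

lemma triv_of_tower {φ : A →+* B} {χ : A →+* D} (ψ : B →+* D) (hcomp : ψ.comp φ = χ)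
    (hφ : UH φ) (hχ : UH χ) (ht : Triv χ) : Triv φ := by
  intro q hq b
  let g : B →+* AlgebraicClosure (FractionRing (B ⧸ q)) :=
    (algebraMap (B ⧸ q) _).comp (Ideal.Quotient.mk q)
  obtain ⟨G, hG⟩ := hχ.exists_lift (g.comp φ)
  have hGg : G.comp ψ = g := hφ.2.1 _ _ _ (by rw [RingHom.comp_assoc, hcomp, hG])
  have hqker : ∀ z, z ∈ q ↔ g z = 0 := fun z => by
    rw [RingHom.comp_apply, map_eq_zero_iff _ (algebraMap_algClosure_injective _),
      Ideal.Quotient.eq_zero_iff_mem]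
  obtain ⟨a, s, hs, has⟩ := ht (RingHom.ker G) (RingHom.ker_isPrime G) (ψ b)
  refine ⟨a, s, fun hm => hs ?_, ?_⟩
  · rw [RingHom.mem_ker]
    exact (RingHom.congr_fun hG s).trans ((hqker _).1 hm)
  · rw [hqker, ← hGg, RingHom.comp_apply, map_sub, map_mul, ← RingHom.comp_apply ψ φ,
      ← RingHom.comp_apply ψ φ, hcomp]
    exact RingHom.mem_ker.1 has

/-- injective intermediate rings -/
lemma uh_of_injective {φ : A →+* B} {χ : A →+* D} (ψ : B →+* D) (hcomp : ψ.comp φ = χ)
    (hψ : Function.Injective ψ) (hχ : UH χ) : UH φ := by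
  have hint : φ.IsIntegral := fun b => by
    obtain ⟨F, hF, hFb⟩ := hχ.1 (ψ b)
    refine ⟨F, hF, hψ ?_⟩
    rw [hom_eval₂, hcomp, hFb, map_zero]
  refine ⟨hint, ?_, fun x hx => hχ.2.2 (by
    rw [RingHom.mem_ker, ← hcomp, RingHom.comp_apply, RingHom.mem_ker.1 hx, map_zero])⟩
  intro K _ g₁ g₂ hg
  let L := AlgebraicClosure K
  have hψint : ψ.IsIntegral :=
    RingHom.IsIntegral.tower_top φ ψ (hcomp.symm ▸ hχ.1)
  have hker : RingHom.ker ψ ≤ RingHom.ker ((algebraMap K L).comp g₁) ∧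
      RingHom.ker ψ ≤ RingHom.ker ((algebraMap K L).comp g₂) := by
    rw [(RingHom.injective_iff_ker_eq_bot ψ).1 hψ]
    exact ⟨bot_le, bot_le⟩
  obtain ⟨G₁, hG₁⟩ := exists_extend ψ hψint _ hker.1
  obtain ⟨G₂, hG₂⟩ := exists_extend ψ hψint _ hker.2
  have := hχ.2.1 L G₁ G₂ (by
    rw [← hcomp, ← RingHom.comp_assoc, ← RingHom.comp_assoc, hG₁, hG₂, RingHom.comp_assoc,
      RingHom.comp_assoc, hg])
  refine RingHom.ext fun b => (algebraMap K L).injective ?_
  rw [← RingHom.comp_apply, ← RingHom.comp_apply (algebraMap K L) g₂, ← hG₁, ← hG₂, this]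

end Groth.Agent.UnivHomeo
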