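import Groth.Agent.UnivHomeo.Ring
import Mathlib.RingTheory.Adjoin.Basic
import Mathlib.RingTheory.IntegralClosure.IsIntegralClosure.Basic
import Mathlib.Algebra.CharP.Lemmas

/-!
Towers `A ⊆ A[b₁] ⊆ A[b₁,b₂] ⊆ …` built from elements with `b², b³` (or `p b, b^p`) below,
and the properties they force on `A → B`.
-/

set_option autoImplicit false
set_option linter.unusedSectionVars false

namespace Groth.Agent.UnivHomeo

universe u

open Polynomial

variable {A B : Type u} [CommRing A] [CommRing B] [Algebra A B]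

/-- square and cube lie below -/
def StepC (C : Set B) (b : B) : Prop := b ^ 2 ∈ C ∧ b ^ 3 ∈ C

/-- square and cube, or `p b` and `b ^ p`, lie below -/
def StepP (C : Set B) (b : B) : Prop :=
  StepC C b ∨ ∃ p : ℕ, p.Prime ∧ (p : B) * b ∈ C ∧ b ^ p ∈ C

/-- a tower -/
def Good (A : Type u) {B : Type u} [CommRing A] [CommRing B] [Algebra A B]
    (P : Set B → B → Prop) (l : List B) : Prop :=
  ∀ i : Fin l.length,
    P (Algebra.adjoin A {b : B | ∃ j : Fin l.length, j < i ∧ b = l.get j} : Subalgebra A B) (l.get i)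

lemma StepC.mono {C D : Set B} (h : C ⊆ D) {b : B} (hb : StepC C b) : StepC D b :=
  ⟨h hb.1, h hb.2⟩

lemma StepP.mono {C D : Set B} (h : C ⊆ D) {b : B} (hb : StepP C b) : StepP D b := by
  rcases hb with hb | ⟨p, hp, h1, h2⟩
  · exact Or.inl (hb.mono h)
  · exact Or.inr ⟨p, hp, h h1, h h2⟩

variable {P : Set B → B → Prop}

lemma Good.append (hP : ∀ {C D : Set B}, C ⊆ D → ∀ {b}, P C b → P D b) {l₁ l₂ : List B}
    (h₁ : Good A P l₁) (h₂ : Good A P l₂) : Good A P (l₁ ++ l₂) := by
  intro i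
  have hlen : (l₁ ++ l₂).length = l₁.length + l₂.length := List.length_append
  rcases lt_or_ge (i : ℕ) l₁.length with hi | hi
  · have he : (l₁ ++ l₂).get i = l₁.get ⟨i, hi⟩ := List.getElem_append_left hi
    rw [he]
    refine hP ?_ (h₁ ⟨i, hi⟩)
    refine SetLike.coe_subset_coe.2 (Algebra.adjoin_mono ?_)
    rintro b ⟨j, hj, rfl⟩
    exact ⟨⟨j, by omega⟩, hj, (List.getElem_append_left j.2).symm⟩
  · have hi' : (i : ℕ) - l₁.length < l₂.length := by have := i.2; omega
    have he : (l₁ ++ l₂).get i = l₂.get ⟨i - l₁.length, hi'⟩ := List.getElem_append_right hi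
    rw [he]
    refine hP ?_ (h₂ ⟨_, hi'⟩)
    refine SetLike.coe_subset_coe.2 (Algebra.adjoin_mono ?_)
    rintro b ⟨j, hj, rfl⟩
    refine ⟨⟨l₁.length + j, by omega⟩, ?_, ?_⟩
    · rw [Fin.lt_def] at hj ⊢
      simp only at hj ⊢
      omega
    · simp only [List.get_eq_getElem]
      rw [List.getElem_append_right (by omega)]
      congr 1
      omega

lemma Good.snoc (hP : ∀ {C D : Set B}, C ⊆ D → ∀ {b}, P C b → P D b) {l : List B} {b : B}
    (h : Good A P l) (hb : P (Algebra.adjoin A {x : B | x ∈ l} : Subalgebra A B) b) :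
    Good A P (l ++ [b]) := by
  intro i
  have hlen : (l ++ [b]).length = l.length + 1 := by simp
  rcases lt_or_ge (i : ℕ) l.length with hi | hi
  · have he : (l ++ [b]).get i = l.get ⟨i, hi⟩ := List.getElem_append_left hi
    rw [he]
    refine hP ?_ (h ⟨i, hi⟩)
    refine SetLike.coe_subset_coe.2 (Algebra.adjoin_mono ?_)
    rintro b ⟨j, hj, rfl⟩
    exact ⟨⟨j, by omega⟩, hj, (List.getElem_append_left j.2).symm⟩
  · have hi' : (i : ℕ) = l.length := by have := i.2; omega
    have he : (l ++ [b]).get i = b := by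
      simp only [List.get_eq_getElem]
      rw [List.getElem_append_right hi]
      simp [hi']
    rw [he]
    refine hP ?_ hb
    refine SetLike.coe_subset_coe.2 (Algebra.adjoin_mono ?_)
    intro x hx
    obtain ⟨j, hj, rfl⟩ := List.mem_iff_getElem.1 hx
    exact ⟨⟨j, by omega⟩, by rw [Fin.lt_def]; simp only; omega, (List.getElem_append_left hj).symm⟩

lemma adjoin_le_append_left (l₁ l₂ : List B) :
    Algebra.adjoin A {x : B | x ∈ l₁} ≤ Algebra.adjoin A {x : B | x ∈ l₁ ++ l₂} :=
  Algebra.adjoin_mono fun _ hx => List.mem_append_left _ hx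

lemma adjoin_le_append_right (l₁ l₂ : List B) :
    Algebra.adjoin A {x : B | x ∈ l₂} ≤ Algebra.adjoin A {x : B | x ∈ l₁ ++ l₂} :=
  Algebra.adjoin_mono fun _ hx => List.mem_append_right _ hx

lemma good_nil : Good A P ([] : List B) := fun i => i.elim0

/-- the union of all towers -/
def union (A : Type u) {B : Type u} [CommRing A] [CommRing B] [Algebra A B]
    (P : Set B → B → Prop) (hP : ∀ {C D : Set B}, C ⊆ D → ∀ {b}, P C b → P D b) :
    Subalgebra A B where
  carrier := {b | ∃ l : List B, Good A P l ∧ b ∈ Algebra.adjoin A {x : B | x ∈ l}}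
  mul_mem' := by
    rintro a b ⟨l, hl, ha⟩ ⟨m, hm, hb⟩
    exact ⟨l ++ m, hl.append hP hm,
      mul_mem (adjoin_le_append_left l m ha) (adjoin_le_append_right l m hb)⟩
  add_mem' := by
    rintro a b ⟨l, hl, ha⟩ ⟨m, hm, hb⟩
    exact ⟨l ++ m, hl.append hP hm,
      add_mem (adjoin_le_append_left l m ha) (adjoin_le_append_right l m hb)⟩
  algebraMap_mem' := fun a => ⟨[], good_nil, Subalgebra.algebraMap_mem _ a⟩

lemma stepC_mem_union (hP : ∀ {C D : Set B}, C ⊆ D → ∀ {b}, P C b → P D b)
    (hCP : ∀ {C : Set B} {b : B}, StepC C b → P C b) {b : B}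
    (h2 : b ^ 2 ∈ union A P hP) (h3 : b ^ 3 ∈ union A P hP) : b ∈ union A P hP := by
  obtain ⟨l, hl, h2⟩ := h2
  obtain ⟨m, hm, h3⟩ := h3
  exact ⟨(l ++ m) ++ [b], (hl.append hP hm).snoc hP
    (hCP ⟨adjoin_le_append_left l m h2, adjoin_le_append_right l m h3⟩),
    Algebra.subset_adjoin (by simp)⟩

lemma pth_mem_union {b : B} {p : ℕ} (hp : p.Prime)
    (h1 : (p : B) * b ∈ union A StepP StepP.mono) (h2 : b ^ p ∈ union A StepP StepP.mono) :
    b ∈ union A StepP StepP.mono := by
  obtain ⟨l, hl, h1⟩ := h1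
  obtain ⟨m, hm, h2⟩ := h2
  exact ⟨(l ++ m) ++ [b], (hl.append StepP.mono hm).snoc StepP.mono
    (Or.inr ⟨p, hp, adjoin_le_append_left l m h1, adjoin_le_append_right l m h2⟩),
    Algebra.subset_adjoin (by simp)⟩

lemma exists_good_of_union_eq_top (hP : ∀ {C D : Set B}, C ⊆ D → ∀ {b}, P C b → P D b)
    (h : union A P hP = ⊤) (E : Finset B) :
    ∃ l : List B, (↑E : Set B) ⊆ Algebra.adjoin A {b : B | b ∈ l} ∧ Good A P l := by
  classical
  induction E using Finset.induction with
  | empty => exact ⟨[], by simp, good_nil⟩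
  | insert a E _ ih =>
    obtain ⟨l, hE, hl⟩ := ih
    obtain ⟨m, hm, ha⟩ : a ∈ union A P hP := h ▸ Algebra.mem_top
    refine ⟨l ++ m, ?_, hl.append hP hm⟩
    rw [Finset.coe_insert, Set.insert_subset_iff]
    exact ⟨adjoin_le_append_right l m ha, hE.trans (SetLike.coe_subset_coe.2 (adjoin_le_append_left l m))⟩

lemma eq_top_of_good (hP : ∀ {C D : Set B}, C ⊆ D → ∀ {b}, P C b → P D b)
    (h : ∀ E : Finset B, ∃ l : List B, (↑E : Set B) ⊆ Algebra.adjoin A {b : B | b ∈ l} ∧ Good A P l)
    (C : Subalgebra A B) (hC : ∀ b, P (C : Set B) b → b ∈ C) : C = ⊤ := by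
  rw [eq_top_iff]
  rintro b -
  obtain ⟨l, hb, hl⟩ := h {b}
  have key : ∀ (k : ℕ) (i : Fin l.length), (i : ℕ) = k → l.get i ∈ C := by
    intro k
    induction k using Nat.strong_induction_on with
    | _ k ih =>
      intro i hi
      refine hC _ (hP (SetLike.coe_subset_coe.2 (Algebra.adjoin_le ?_)) (hl i))
      rintro x ⟨j, hj, rfl⟩
      exact ih j (hi ▸ hj) j rfl
  refine Algebra.adjoin_le (S := C) ?_ (hb (by simp))
  intro x hx
  obtain ⟨j, hj, rfl⟩ := List.mem_iff_getElem.1 hx
  exact key j ⟨j, hj⟩ rfl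

section field

lemma eq_of_sq_cube {K : Type*} [Field K] {a b : K} (h2 : a ^ 2 = b ^ 2) (h3 : a ^ 3 = b ^ 3) :
    a = b := by
  rcases eq_or_ne b 0 with rfl | hb
  · exact (pow_eq_zero_iff two_ne_zero).1 (by simpa using h2)
  · refine mul_left_cancel₀ (pow_ne_zero 2 hb) ?_
    calc b ^ 2 * a = a ^ 2 * a := by rw [h2]
      _ = a ^ 3 := by ring
      _ = b ^ 2 * b := by rw [h3]; ring

lemma eq_of_mul_pow {K : Type*} [Field K] {p : ℕ} (hp : p.Prime) {a b : K}
    (h1 : (p : K) * a = (p : K) * b) (h2 : a ^ p = b ^ p) : a = b := by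
  rcases eq_or_ne (p : K) 0 with h | h
  · haveI := Fact.mk hp
    haveI : CharP K p :=
      (CharP.charP_iff_prime_eq_zero hp).2 h
    exact frobenius_inj K p h2
  · exact mul_left_cancel₀ h h1

end field

variable (h : ∀ E : Finset B, ∃ l : List B, (↑E : Set B) ⊆ Algebra.adjoin A {b : B | b ∈ l} ∧ Good A StepP l)

include h in
lemma isIntegral_of_good : (algebraMap A B).IsIntegral := by
  intro b
  have := eq_top_of_good StepP.mono h (integralClosure A B) (by
    rintro x (⟨hx, -⟩ | ⟨p, hp, -, hx⟩)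
    · exact IsIntegral.of_pow two_pos hx
    · exact IsIntegral.of_pow hp.pos hx)
  exact (this ▸ Algebra.mem_top : b ∈ integralClosure A B)

include h in
lemma rad_of_good : Rad (algebraMap A B) := by
  intro K _ g₁ g₂ hg
  refine RingHom.ext fun b => ?_
  let C : Subalgebra A B :=
    { carrier := {x | g₁ x = g₂ x}
      mul_mem' := fun {x y} (hx : g₁ x = g₂ x) (hy : g₁ y = g₂ y) => by
        change g₁ _ = g₂ _; rw [map_mul, map_mul, hx, hy]
      add_mem' := fun {x y} (hx : g₁ x = g₂ x) (hy : g₁ y = g₂ y) => by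
        change g₁ _ = g₂ _; rw [map_add, map_add, hx, hy]
      algebraMap_mem' := fun a => RingHom.congr_fun hg a }
  have := eq_top_of_good StepP.mono h C (by
    rintro x (⟨h2, h3⟩ | ⟨p, hp, h1, h2⟩)
    · change g₁ _ = g₂ _ at h2 h3
      simp only [map_pow] at h2 h3
      exact eq_of_sq_cube h2 h3
    · change g₁ _ = g₂ _ at h1 h2
      simp only [map_pow, map_mul, map_natCast] at h1 h2
      exact eq_of_mul_pow hp h1 h2)
  exact (this ▸ Algebra.mem_top : b ∈ C)

lemma triv_of_good
    (h : ∀ E : Finset B, ∃ l : List B, (↑E : Set B) ⊆ Algebra.adjoin A {b : B | b ∈ l} ∧ Good A StepC l) :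
    Triv (algebraMap A B) := by
  intro q hq b
  let C : Subalgebra A B :=
    { carrier := {x | ∃ a s : A, algebraMap A B s ∉ q ∧ algebraMap A B s * x - algebraMap A B a ∈ q}
      mul_mem' := by
        rintro x y ⟨a, s, hs, hx⟩ ⟨c, t, ht, hy⟩
        refine ⟨a * c, s * t, by rw [map_mul]; exact fun hm => (hq.mem_or_mem hm).elim hs ht, ?_⟩
        have e := q.add_mem (q.mul_mem_right (algebraMap A B t * y) hx)
          (q.mul_mem_left (algebraMap A B a) hy)
        convert e using 1
        simp only [map_mul]; ring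
      add_mem' := by
        rintro x y ⟨a, s, hs, hx⟩ ⟨c, t, ht, hy⟩
        refine ⟨a * t + c * s, s * t, by rw [map_mul]; exact fun hm => (hq.mem_or_mem hm).elim hs ht, ?_⟩
        have e := q.add_mem (q.mul_mem_right (algebraMap A B t) hx)
          (q.mul_mem_right (algebraMap A B s) hy)
        convert e using 1
        simp only [map_add, map_mul]; ring
      algebraMap_mem' := fun a => ⟨a, 1, by rw [map_one]; exact hq.one_notMem, by simp⟩ }
  have := eq_top_of_good StepC.mono h C (by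
    rintro x ⟨⟨a, s, hs, h2⟩, c, t, ht, h3⟩
    by_cases hx : x ∈ q
    · exact ⟨0, 1, by rw [map_one]; exact hq.one_notMem,
        by simpa using hx⟩
    refine ⟨c * s, a * t, ?_, ?_⟩
    · rw [map_mul]
      intro hm
      rcases hq.mem_or_mem hm with hm | hm
      · have h4 := q.add_mem h2 hm
        rw [sub_add_cancel] at h4
        exact (hq.mem_or_mem h4).elim hs (fun h5 => hx (hq.mem_of_pow_mem 2 h5))
      · exact ht hm
    · have e := q.sub_mem (q.mul_mem_left (algebraMap A B s) h3)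
        (q.mul_mem_left (algebraMap A B t * x) h2)
      convert e using 1
      simp only [map_mul]; ring)
  exact (this ▸ Algebra.mem_top : b ∈ C)

lemma good_stepP_of_stepC {l : List B} (hl : Good A StepC l) : Good A StepP l :=
  fun i => Or.inl (hl i)

lemma union_stepC_eq_top (hint : (algebraMap A B).IsIntegral) (hrad : Rad (algebraMap A B))
    (htriv : Triv (algebraMap A B)) : union A StepC StepC.mono = (⊤ : Subalgebra A B) := by
  refine Algebra.toSubring_eq_top.1 ?_
  refine eq_top_of_closed (algebraMap A B) _ hint hrad ?_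
    (fun x h2 h3 => stepC_mem_union StepC.mono id h2 h3) (Or.inl htriv)
  rintro _ ⟨a, rfl⟩
  exact Subalgebra.algebraMap_mem (union A StepC StepC.mono) a

lemma union_stepP_eq_top (hint : (algebraMap A B).IsIntegral) (hrad : Rad (algebraMap A B)) :
    union A StepP StepP.mono = (⊤ : Subalgebra A B) := by
  refine Algebra.toSubring_eq_top.1 ?_
  refine eq_top_of_closed (algebraMap A B) _ hint hrad ?_
    (fun x h2 h3 => stepC_mem_union StepP.mono Or.inl h2 h3)
    (Or.inr fun p hp x h1 h2 => pth_mem_union hp h1 h2)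
  rintro _ ⟨a, rfl⟩
  exact Subalgebra.algebraMap_mem (union A StepP StepP.mono) a

end Groth.Agent.UnivHomeo
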