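import Groth.Agent.UnivHomeo.Adjoin
import Mathlib.CategoryTheory.Filtered.Basic
import Mathlib.CategoryTheory.Comma.Over.Basic
import Mathlib.CategoryTheory.Limits.IsLimit
import Mathlib.Algebra.Category.Ring.Basic

/-!
A ring map inducing a universal homeomorphism is a filtered colimit of finitely presented ones.
-/

set_option autoImplicit false
set_option linter.unusedSectionVars false

namespace Groth.Agent.UnivHomeo

universe u

open Polynomial CategoryTheory

section extension

variable {A B : Type u} [CommRing A] [CommRing B] [Algebra A B]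

lemma exists_step (hB : UH (algebraMap A B)) {D : Type u} [CommRing D] [Algebra A D]
    [Algebra.FinitePresentation A D] (hD : UH (algebraMap A D)) (f : D →ₐ[A] B) {b : B}
    (hb : StepP (f.range : Set B) b) :
    ∃ (D' : Type u) (_ : CommRing D') (_ : Algebra A D'), Algebra.FinitePresentation A D' ∧
      UH (algebraMap A D') ∧ ∃ (f' : D' →ₐ[A] B) (u' : D →ₐ[A] D'), f'.comp u' = f ∧ b ∈ f'.range := by
  classical
  have hker : RingHom.ker f.toRingHom ≤ nilradical D :=
    ker_le_nilradical_of_tower f.toRingHom f.comp_algebraMap hD hB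
  have finish : ∀ (I : Ideal D[X]), I.FG → UH (algebraMap D (D[X] ⧸ I)) →
      (∀ F ∈ I, F.eval₂ f.toRingHom b = 0) →
      ∃ (D' : Type u) (_ : CommRing D') (_ : Algebra A D'), Algebra.FinitePresentation A D' ∧
        UH (algebraMap A D') ∧ ∃ (f' : D' →ₐ[A] B) (u' : D →ₐ[A] D'), f'.comp u' = f ∧ b ∈ f'.range := by
    intro I hI hUH hev
    haveI : Algebra.FinitePresentation D (D[X] ⧸ I) := Algebra.FinitePresentation.quotient hI
    refine ⟨D[X] ⧸ I, inferInstance, inferInstance, Algebra.FinitePresentation.trans A D (D[X] ⧸ I),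
      ?_, ?_⟩
    · rw [IsScalarTower.algebraMap_eq A D (D[X] ⧸ I)]
      exact hD.comp hUH
    · refine ⟨{ toRingHom := Ideal.Quotient.lift I (eval₂RingHom f.toRingHom b) hev
                commutes' := fun a => ?_ }, IsScalarTower.toAlgHom A D (D[X] ⧸ I), ?_, ?_⟩
      · change eval₂ f.toRingHom b (Polynomial.C (algebraMap A D a)) = _
        rw [eval₂_C]
        exact f.commutes a
      · refine AlgHom.ext fun d => ?_
        change eval₂ f.toRingHom b (Polynomial.C d) = _
        rw [eval₂_C]; rfl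
      · exact ⟨Ideal.Quotient.mk I X, eval₂_X _ _⟩
  rcases hb with ⟨⟨x, hx⟩, y, hy⟩ | ⟨p, hp, ⟨y, hy⟩, x, hx⟩
  · change f x = b ^ 2 at hx
    change f y = b ^ 3 at hy
    refine finish _ ⟨{X ^ 2 - Polynomial.C x, X ^ 3 - Polynomial.C y}, by simp⟩
      (uh_adjoin_sq_cube x y fun L _ g => ?_) fun F hF => ?_
    · rw [← map_pow, ← map_pow, ← sub_eq_zero, ← map_sub]
      refine eq_zero_of_isNilpotent_map g (hker ?_)
      rw [RingHom.mem_ker]
      change f (x ^ 3 - y ^ 2) = 0
      rw [map_sub, map_pow, map_pow, hx, hy]; ring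
    · refine RingHom.mem_ker.1 ((Ideal.span_le (I := RingHom.ker (eval₂RingHom f.toRingHom b))).2 ?_ hF)
      rintro _ (rfl | rfl) <;> simp [hx, hy]
  · change f y = (p : B) * b at hy
    change f x = b ^ p at hx
    refine finish _ ⟨{X ^ p - Polynomial.C x, Polynomial.C (p : D) * X - Polynomial.C y}, by simp⟩
      (uh_adjoin_pth p hp x y fun L _ g => ?_) fun F hF => ?_
    · rw [← map_natCast g, ← map_pow, ← map_pow, ← map_mul, ← sub_eq_zero, ← map_sub]
      refine eq_zero_of_isNilpotent_map g (hker ?_)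
      rw [RingHom.mem_ker]
      change f ((p : D) ^ p * x - y ^ p) = 0
      rw [map_sub, map_mul, map_pow, map_pow, map_natCast, hx, hy]; ring
    · refine RingHom.mem_ker.1 ((Ideal.span_le (I := RingHom.ker (eval₂RingHom f.toRingHom b))).2 ?_ hF)
      rintro _ (rfl | rfl) <;> simp [hx, hy]

lemma exists_list (hB : UH (algebraMap A B)) (E : Finset B) {D : Type u} [CommRing D] [Algebra A D]
    [Algebra.FinitePresentation A D] (hD : UH (algebraMap A D)) (f : D →ₐ[A] B) :
    ∃ (D' : Type u) (_ : CommRing D') (_ : Algebra A D'), Algebra.FinitePresentation A D' ∧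
      UH (algebraMap A D') ∧ ∃ (f' : D' →ₐ[A] B) (u' : D →ₐ[A] D'),
        f'.comp u' = f ∧ (↑E : Set B) ⊆ f'.range := by
  obtain ⟨l, hEl, hl⟩ := exists_good_of_union_eq_top StepP.mono
    (union_stepP_eq_top hB.1 hB.2.1) E
  have key : ∀ k, k ≤ l.length → ∃ (D' : Type u) (_ : CommRing D') (_ : Algebra A D'),
      Algebra.FinitePresentation A D' ∧ UH (algebraMap A D') ∧ ∃ (f' : D' →ₐ[A] B) (u' : D →ₐ[A] D'),
        f'.comp u' = f ∧ ∀ j : Fin l.length, (j : ℕ) < k → l.get j ∈ f'.range := by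
    intro k
    induction k with
    | zero => exact fun _ => ⟨D, inferInstance, inferInstance, inferInstance, hD, f, AlgHom.id A D,
        AlgHom.comp_id f, fun j hj => absurd hj (Nat.not_lt_zero _)⟩
    | succ k ih =>
      intro hk
      obtain ⟨D₁, _, _, hfp, hUH, f₁, u₁, hu₁, hr⟩ := ih (Nat.le_of_succ_le hk)
      haveI := hfp
      have hstep : StepP (f₁.range : Set B) (l.get ⟨k, hk⟩) := by
        refine StepP.mono (SetLike.coe_subset_coe.2 (Algebra.adjoin_le ?_)) (hl ⟨k, hk⟩)
        rintro x ⟨j, hj, rfl⟩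
        exact hr j hj
      obtain ⟨D₂, _, _, hfp₂, hUH₂, f₂, u₂, hu₂, hb⟩ := exists_step hB hUH f₁ hstep
      refine ⟨D₂, inferInstance, inferInstance, hfp₂, hUH₂, f₂, u₂.comp u₁, ?_, fun j hj => ?_⟩
      · rw [← AlgHom.comp_assoc, hu₂, hu₁]
      · rcases Nat.lt_succ_iff_lt_or_eq.1 hj with hj | hj
        · obtain ⟨d, hd⟩ := hr j hj
          exact ⟨u₂ d, by rw [← hd, ← hu₂]; rfl⟩
        · rw [show j = ⟨k, hk⟩ from Fin.ext hj]; exact hb
  obtain ⟨D', i1, i2, h1, h2, f', u', h3, h4⟩ := key l.length le_rfl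
  refine ⟨D', i1, i2, h1, h2, f', u', h3, fun x hx => ?_⟩
  refine Algebra.adjoin_le (S := f'.range) ?_ (hEl hx)
  intro y hy
  obtain ⟨j, hj, rfl⟩ := List.mem_iff_getElem.1 hy
  exact h4 ⟨j, hj⟩ hj

end extension

section category

variable (A B : Type u) [CommRing A] [CommRing B] [Algebra A B]

/-- finitely presented algebras, UH over `A`, mapping to `B` -/
structure Obj : Type u where
  n : ℕ
  b : Fin n → B
  K : Ideal (MvPolynomial (Fin n) A)
  fg : K.FG
  le : ∀ x ∈ K, MvPolynomial.aeval b x = 0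
  uh : UH (algebraMap A (MvPolynomial (Fin n) A ⧸ K))

variable {A B}

/-- the ring of an object -/
abbrev Obj.R (j : Obj A B) : Type u := MvPolynomial (Fin j.n) A ⧸ j.K

/-- the map to `B` -/
noncomputable def Obj.ev (j : Obj A B) : j.R →ₐ[A] B :=
  Ideal.Quotient.liftₐ j.K (MvPolynomial.aeval j.b) j.le

noncomputable instance : Category (Obj A B) where
  Hom j j' := { f : j.R →ₐ[A] j'.R // j'.ev.comp f = j.ev }
  id j := ⟨AlgHom.id A _, AlgHom.comp_id _⟩
  comp f g := ⟨g.1.comp f.1, by rw [← AlgHom.comp_assoc, g.2, f.2]⟩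

lemma Obj.comp_val {i j k : Obj A B} (f : i ⟶ j) (g : j ⟶ k) : (f ≫ g).1 = g.1.comp f.1 := rfl

lemma Obj.hom_ev {i j : Obj A B} (f : i ⟶ j) (x : i.R) : j.ev (f.1 x) = i.ev x :=
  AlgHom.congr_fun f.2 x

lemma exists_obj {D : Type u} [CommRing D] [Algebra A D] [hfp : Algebra.FinitePresentation A D]
    (hD : UH (algebraMap A D)) (f : D →ₐ[A] B) :
    ∃ (j : Obj A B) (e : j.R ≃ₐ[A] D), f.comp e.toAlgHom = j.ev := by
  obtain ⟨n, π, hπ, hfg⟩ := hfp.out
  let e : (MvPolynomial (Fin n) A ⧸ RingHom.ker π.toRingHom) ≃ₐ[A] D :=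
    Ideal.quotientKerAlgEquivOfSurjective hπ
  have hUH : UH (algebraMap A (MvPolynomial (Fin n) A ⧸ RingHom.ker π.toRingHom)) :=
    uh_of_injective e.toRingEquiv.toRingHom (RingHom.ext fun a => e.commutes a) e.injective hD
  have hae : MvPolynomial.aeval (fun i => f (π (MvPolynomial.X i))) = f.comp π :=
    MvPolynomial.algHom_ext fun i => by simp
  have hle : ∀ x ∈ RingHom.ker π.toRingHom,
      MvPolynomial.aeval (fun i => f (π (MvPolynomial.X i))) x = 0 := fun x hx => by
    rw [hae, AlgHom.comp_apply, show π x = 0 from hx, map_zero]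
  let j : Obj A B := ⟨n, fun i => f (π (MvPolynomial.X i)), RingHom.ker π.toRingHom, hfg, hle, hUH⟩
  refine ⟨j, e, Ideal.Quotient.algHom_ext A (MvPolynomial.algHom_ext fun i => ?_)⟩
  change f (e (Ideal.Quotient.mk _ (MvPolynomial.X i))) = j.ev (Ideal.Quotient.mk _ (MvPolynomial.X i))
  rw [show e (Ideal.Quotient.mk _ (MvPolynomial.X i)) = π (MvPolynomial.X i) from rfl]
  exact (MvPolynomial.aeval_X j.b i).symm

variable (hB : UH (algebraMap A B))
include hB

lemma ev_ker_le (j : Obj A B) : RingHom.ker j.ev.toRingHom ≤ nilradical j.R :=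
  ker_le_nilradical_of_tower j.ev.toRingHom j.ev.comp_algebraMap j.uh hB

/-- every finite set is hit above any object -/
lemma exists_hom_range (j : Obj A B) (E : Finset B) :
    ∃ (k : Obj A B) (_ : j ⟶ k), (↑E : Set B) ⊆ k.ev.range := by
  haveI : Algebra.FinitePresentation A j.R := Algebra.FinitePresentation.quotient j.fg
  obtain ⟨D, _, _, hfp, hUH, f, u', hu, hE⟩ := exists_list hB E j.uh j.ev
  obtain ⟨k, e, he⟩ := exists_obj hUH f
  refine ⟨k, ⟨e.symm.toAlgHom.comp u', ?_⟩, fun x hx => ?_⟩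
  · rw [← hu, ← he]
    refine AlgHom.ext fun x => ?_
    simp
  · obtain ⟨d, hd⟩ := hE hx
    refine ⟨e.symm d, ?_⟩
    rw [← hd, ← he]
    simp

/-- kill finitely many elements of the kernel -/
lemma exists_hom_kill (j : Obj A B) (s : Finset j.R) (hs : ∀ x ∈ s, j.ev x = 0) :
    ∃ (k : Obj A B) (f : j ⟶ k), ∀ x ∈ s, f.1 x = 0 := by
  haveI : Algebra.FinitePresentation A j.R := Algebra.FinitePresentation.quotient j.fg
  let I : Ideal j.R := Ideal.span (s : Set j.R)
  have hI : I ≤ RingHom.ker j.ev.toRingHom := Ideal.span_le.2 hs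
  haveI : Algebra.FinitePresentation A (j.R ⧸ I) := Algebra.FinitePresentation.quotient ⟨s, rfl⟩
  have hUH : UH (algebraMap A (j.R ⧸ I)) :=
    j.uh.comp (uh_quotient I (hI.trans (ev_ker_le hB j)))
  let f : (j.R ⧸ I) →ₐ[A] B := Ideal.Quotient.liftₐ I j.ev fun x hx => hI hx
  obtain ⟨k, e, he⟩ := exists_obj hUH f
  refine ⟨k, ⟨e.symm.toAlgHom.comp (Ideal.Quotient.mkₐ A I), ?_⟩, fun x hx => ?_⟩
  · rw [← he]
    refine AlgHom.ext fun x => ?_
    change f (e (e.symm (Ideal.Quotient.mk I x))) = _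
    rw [AlgEquiv.apply_symm_apply]
    rfl
  · change e.symm (Ideal.Quotient.mk I x) = 0
    rw [Ideal.Quotient.eq_zero_iff_mem.2 (Ideal.subset_span hx), map_zero]

/-- the initial object -/
lemma exists_obj_base : ∃ _ : Obj A B, True := by
  obtain ⟨j, -, -⟩ := exists_obj (D := A) uh_id (Algebra.ofId A B)
  exact ⟨j, trivial⟩

lemma isFiltered : IsFiltered (Obj A B) := by
  classical
  haveI : Nonempty (Obj A B) := (exists_obj_base hB).nonempty
  refine { toIsFilteredOrEmpty := { cocone_objs := fun i j => ?_, cocone_maps := fun i j f g => ?_ } }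
  · obtain ⟨k, u, hk⟩ := exists_hom_range hB i (Finset.univ.image j.b)
    have hb : ∀ t, ∃ x : k.R, k.ev x = j.b t := fun t => hk (by simp)
    choose x hx using hb
    let v₀ : MvPolynomial (Fin j.n) A →ₐ[A] k.R := MvPolynomial.aeval x
    have hv₀ : k.ev.comp v₀ = MvPolynomial.aeval j.b := MvPolynomial.algHom_ext fun t => by simp [v₀, hx]
    obtain ⟨s, hs⟩ := j.fg
    obtain ⟨l, w, hl⟩ := exists_hom_kill hB k (s.image v₀) (fun y hy => by
      obtain ⟨r, hr, rfl⟩ := Finset.mem_image.1 hy
      rw [← AlgHom.comp_apply, hv₀]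
      exact j.le r (hs ▸ Ideal.subset_span hr))
    have hkill : ∀ r ∈ j.K, (w.1.comp v₀) r = 0 := by
      intro r hr
      rw [← hs] at hr
      exact (Ideal.span_le (I := RingHom.ker (w.1.comp v₀).toRingHom)).2
        (fun y hy => hl _ (Finset.mem_image_of_mem v₀ hy)) hr
    refine ⟨l, u ≫ w, ⟨Ideal.Quotient.liftₐ j.K (w.1.comp v₀) hkill, ?_⟩, trivial⟩
    refine Ideal.Quotient.algHom_ext A ?_
    rw [AlgHom.comp_assoc, Ideal.Quotient.liftₐ_comp, ← AlgHom.comp_assoc, w.2, hv₀]
    exact (Ideal.Quotient.liftₐ_comp _ _ _).symm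
  · obtain ⟨k, w, hk⟩ := exists_hom_kill hB j
      (Finset.univ.image fun t : Fin i.n => f.1 (Ideal.Quotient.mk i.K (MvPolynomial.X t)) -
        g.1 (Ideal.Quotient.mk i.K (MvPolynomial.X t))) (fun y hy => by
      obtain ⟨t, -, rfl⟩ := Finset.mem_image.1 hy
      rw [map_sub, Obj.hom_ev, Obj.hom_ev, sub_self])
    refine ⟨k, w, Subtype.ext (Ideal.Quotient.algHom_ext A (MvPolynomial.algHom_ext fun t => ?_))⟩
    have := hk _ (Finset.mem_image_of_mem _ (Finset.mem_univ t))
    rw [map_sub, sub_eq_zero] at this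
    exact this

lemma exists_preimage (b : B) : ∃ (j : Obj A B) (x : j.R), j.ev x = b := by
  obtain ⟨j, -⟩ := exists_obj_base hB
  obtain ⟨k, -, hk⟩ := exists_hom_range hB j {b}
  obtain ⟨x, hx⟩ := hk (by simp : b ∈ (↑({b} : Finset B) : Set B))
  exact ⟨k, x, hx⟩

omit hB

variable (A B)

/-- the diagram -/
noncomputable def diagram : Obj A B ⥤ Under (CommRingCat.of A) where
  obj j := Under.mk (CommRingCat.ofHom (algebraMap A j.R))
  map f := Under.homMk (CommRingCat.ofHom f.1.toRingHom) (CommRingCat.hom_ext f.1.comp_algebraMap)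

/-- the cocone with point `B` -/
noncomputable def cocone : Limits.Cocone (diagram A B) where
  pt := Under.mk (CommRingCat.ofHom (algebraMap A B))
  ι :=
    { app := fun j => Under.homMk (CommRingCat.ofHom j.ev.toRingHom)
        (CommRingCat.hom_ext j.ev.comp_algebraMap)
      naturality := fun i j f => by
        apply Under.UnderMorphism.ext
        refine CommRingCat.hom_ext (RingHom.ext fun x => ?_)
        exact Obj.hom_ev f x }

variable {A B}

/-- `B` is the colimit -/
theorem exists_isColimit (hB : UH (algebraMap A B)) : Nonempty (Limits.IsColimit (cocone A B)) := by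
  classical
  haveI := isFiltered hB
  choose J X hX using exists_preimage hB
  have hwd : ∀ (s : Limits.Cocone (diagram A B)) (j : Obj A B) (x : j.R) (k : Obj A B) (y : k.R),
      j.ev x = k.ev y → (s.ι.app j).right x = (s.ι.app k).right y := by
    intro s j x k y hxy
    let f := IsFiltered.leftToMax j k
    let g := IsFiltered.rightToMax j k
    obtain ⟨l, w, hw⟩ := exists_hom_kill hB (IsFiltered.max j k) {f.1 x - g.1 y} (fun z hz => by
      rw [Finset.mem_singleton.1 hz, map_sub, Obj.hom_ev, Obj.hom_ev, hxy, sub_self])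
    have h0 := hw _ (Finset.mem_singleton_self _)
    rw [map_sub, sub_eq_zero] at h0
    have e1 := congrArg (fun q => q.right x) (s.w (f ≫ w))
    have e2 := congrArg (fun q => q.right y) (s.w (g ≫ w))
    change (s.ι.app l).right (w.1 (f.1 x)) = _ at e1
    change (s.ι.app l).right (w.1 (g.1 y)) = _ at e2
    rw [← e1, ← e2, h0]
  have hpair : ∀ a b : B, ∃ (m : Obj A B) (x y : m.R), m.ev x = a ∧ m.ev y = b := fun a b =>
    ⟨IsFiltered.max (J a) (J b), (IsFiltered.leftToMax (J a) (J b)).1 (X a),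
      (IsFiltered.rightToMax (J a) (J b)).1 (X b), by rw [Obj.hom_ev, hX], by rw [Obj.hom_ev, hX]⟩
  let desc : ∀ s : Limits.Cocone (diagram A B), B →+* s.pt.right := fun s =>
    { toFun := fun b => (s.ι.app (J b)).right (X b)
      map_one' := by
        rw [hwd s (J 1) (X 1) (J 1) 1 (by rw [hX, map_one])]
        exact map_one (s.ι.app (J 1)).right.hom
      map_zero' := by
        rw [hwd s (J 0) (X 0) (J 0) 0 (by rw [hX, map_zero])]
        exact map_zero (s.ι.app (J 0)).right.hom
      map_add' := fun a b => by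
        obtain ⟨m, x, y, hx, hy⟩ := hpair a b
        rw [hwd s (J a) (X a) m x (by rw [hX, hx]), hwd s (J b) (X b) m y (by rw [hX, hy]),
          hwd s (J (a + b)) (X (a + b)) m (x + y) (by rw [hX, map_add, hx, hy])]
        exact map_add (s.ι.app m).right.hom x y
      map_mul' := fun a b => by
        obtain ⟨m, x, y, hx, hy⟩ := hpair a b
        rw [hwd s (J a) (X a) m x (by rw [hX, hx]), hwd s (J b) (X b) m y (by rw [hX, hy]),
          hwd s (J (a * b)) (X (a * b)) m (x * y) (by rw [hX, map_mul, hx, hy])]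
        exact map_mul (s.ι.app m).right.hom x y }
  refine ⟨{ desc := fun s => Under.homMk (CommRingCat.ofHom (desc s)) ?_, fac := ?_, uniq := ?_ }⟩
  · refine CommRingCat.hom_ext (RingHom.ext fun a => ?_)
    change (s.ι.app (J (algebraMap A B a))).right (X (algebraMap A B a)) = _
    rw [hwd s _ (X (algebraMap A B a)) (J (algebraMap A B a)) (algebraMap A _ a)
      (by rw [hX, AlgHom.commutes])]
    exact congrArg (fun q => q.hom a) (Under.w (s.ι.app (J (algebraMap A B a))))
  · intro s j
    apply Under.UnderMorphism.ext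
    refine CommRingCat.hom_ext (RingHom.ext fun x => ?_)
    exact hwd s (J (j.ev x)) (X (j.ev x)) j x (hX _)
  · intro s m hm
    apply Under.UnderMorphism.ext
    refine CommRingCat.hom_ext (RingHom.ext fun b => ?_)
    change m.right b = (s.ι.app (J b)).right (X b)
    rw [← hm (J b)]
    exact congrArg m.right (hX b).symm

end category

end Groth.Agent.UnivHomeo
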